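import Cfsg.Agent.Lib.Unipotent.GLCosets
import Cfsg.Agent.Lib.Blocks.GreenDefect
import Mathlib.LinearAlgebra.Matrix.SpecialLinearGroup
import Mathlib.Tactic

/-!
# Intersections of two conjugates of the upper unitriangular group in the special linear group
-/

set_option autoImplicit false
set_option linter.unusedSectionVars false
set_option linter.style.haveILetI false

namespace Cfsg.Agent.SLBlocks

open Matrix
open scoped MatrixGroups

universe u

variable {n : ℕ} {F : Type u} [Field F]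

/-- upper unitriangular -/
def IsUni (M : Matrix (Fin n) (Fin n) F) : Prop :=
  M.IsUpperTriangular ∧ ∀ i, M i i = 1

theorem upper_mul_diag {M N : Matrix (Fin n) (Fin n) F} (hM : M.IsUpperTriangular)
    (hN : N.IsUpperTriangular) (i : Fin n) : (M * N) i i = M i i * N i i := by
  rw [Matrix.mul_apply, Finset.sum_eq_single i]
  · intro b _ hb
    rcases lt_or_gt_of_ne hb with h | h
    · rw [hM (show id b < id i from h), zero_mul]
    · rw [hN (show id i < id b from h), mul_zero]
  · simp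

/-- the upper unitriangular subgroup of the special linear group -/
def uniU (n : ℕ) (F : Type u) [Field F] : Subgroup (SpecialLinearGroup (Fin n) F) where
  carrier := {g | IsUni g.1}
  one_mem' := ⟨Matrix.blockTriangular_one, fun i => Matrix.one_apply_eq i⟩
  mul_mem' := fun {a b} ha hb => ⟨ha.1.mul hb.1, fun i => by
    show (a.1 * b.1) i i = 1
    rw [upper_mul_diag ha.1 hb.1, ha.2, hb.2, one_mul]⟩
  inv_mem' := fun {a} ha => by
    have h1 : (a⁻¹).1.IsUpperTriangular :=
      (Cfsg.upperTriangularGL n F).inv_mem (x := SpecialLinearGroup.toGL a) ha.1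
    refine ⟨h1, fun i => ?_⟩
    have h2 : ((a⁻¹).1 * a.1) i i = (1 : Matrix (Fin n) (Fin n) F) i i :=
      congrFun (congrFun (congrArg Subtype.val (inv_mul_cancel a)) i) i
    rw [upper_mul_diag h1 ha.1, ha.2, mul_one, Matrix.one_apply_eq] at h2
    exact h2

theorem mem_uniU {g : SpecialLinearGroup (Fin n) F} : g ∈ uniU n F ↔ IsUni g.1 := Iff.rfl

/-- conjugation of the special linear group by an invertible matrix -/
def cj (A : GL (Fin n) F) : SpecialLinearGroup (Fin n) F ≃* SpecialLinearGroup (Fin n) F where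
  toFun h := ⟨A.1 * h.1 * (A⁻¹).1, by
    rw [det_mul, det_mul, h.2, mul_one, ← det_mul, ← Units.val_mul, mul_inv_cancel, Units.val_one,
      det_one]⟩
  invFun h := ⟨(A⁻¹).1 * h.1 * A.1, by
    rw [det_mul, det_mul, h.2, mul_one, ← det_mul, ← Units.val_mul, inv_mul_cancel, Units.val_one,
      det_one]⟩
  left_inv h := Subtype.ext (by simp [Matrix.mul_assoc])
  right_inv h := Subtype.ext (by simp [Matrix.mul_assoc])
  map_mul' h k := Subtype.ext (by
    show A.1 * (h.1 * k.1) * (A⁻¹).1 = (A.1 * h.1 * (A⁻¹).1) * (A.1 * k.1 * (A⁻¹).1)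
    simp [Matrix.mul_assoc])

theorem cj_val (A : GL (Fin n) F) (h : SpecialLinearGroup (Fin n) F) :
    (cj A h).1 = A.1 * h.1 * (A⁻¹).1 := rfl

theorem cj_symm_val (A : GL (Fin n) F) (h : SpecialLinearGroup (Fin n) F) :
    ((cj A).symm h).1 = (A⁻¹).1 * h.1 * A.1 := rfl

theorem isUni_conj {A : GL (Fin n) F} (hA : A ∈ Cfsg.upperTriangularGL n F)
    {M : Matrix (Fin n) (Fin n) F} (hM : IsUni M) : IsUni (A.1 * M * (A⁻¹).1) := by
  have hA' : (A⁻¹).1.IsUpperTriangular := (Cfsg.upperTriangularGL n F).inv_mem hA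
  refine ⟨(Matrix.BlockTriangular.mul hA hM.1).mul hA', fun i => ?_⟩
  have h2 := congrFun (congrFun (Units.mul_inv A) i) i
  rw [upper_mul_diag hA hA', Matrix.one_apply_eq] at h2
  rw [upper_mul_diag (Matrix.BlockTriangular.mul hA hM.1) hA', upper_mul_diag hA hM.1, hM.2, mul_one]
  exact h2

theorem isUni_conj_iff {A : GL (Fin n) F} (hA : A ∈ Cfsg.upperTriangularGL n F)
    {M : Matrix (Fin n) (Fin n) F} : IsUni ((A⁻¹).1 * M * A.1) ↔ IsUni M := by
  refine ⟨fun h => ?_, fun h => ?_⟩
  · have := isUni_conj hA h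
    simpa [Matrix.mul_assoc] using this
  · have := isUni_conj (inv_mem hA) h
    simpa using this

open Cfsg.Agent.Unipotent (permGL permGL_apply exists_perm_upper)

theorem apply_inv' (σ : Equiv.Perm (Fin n)) (x : Fin n) : σ (σ⁻¹ x) = x := σ.apply_symm_apply x

theorem inv_apply' (σ : Equiv.Perm (Fin n)) (x : Fin n) : σ⁻¹ (σ x) = x := σ.symm_apply_apply x

theorem perm_conj_apply (σ : Equiv.Perm (Fin n)) (M : Matrix (Fin n) (Fin n) F) (i j : Fin n) :
    ((permGL n F σ)⁻¹.1 * M * (permGL n F σ).1) i j = M (σ i) (σ j) := by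
  rw [show ((permGL n F) σ)⁻¹ = permGL n F σ⁻¹ from (map_inv _ σ).symm, Matrix.mul_apply,
    Finset.sum_eq_single (σ j)]
  · rw [Matrix.mul_apply, Finset.sum_eq_single (σ i)]
    · rw [permGL_apply, permGL_apply, if_pos rfl, if_pos (inv_apply' σ i).symm, one_mul, mul_one]
    · intro b _ hb
      rw [permGL_apply, if_neg (fun h => hb (by rw [h, apply_inv'])), zero_mul]
    · simp
  · intro b _ hb
    rw [permGL_apply σ, if_neg hb, mul_zero]
  · simp

theorem perm_mul_apply (σ : Equiv.Perm (Fin n)) (M : Matrix (Fin n) (Fin n) F) (i j : Fin n) :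
    ((permGL n F σ).1 * M) i j = M (σ⁻¹ i) j := by
  rw [Matrix.mul_apply, Finset.sum_eq_single (σ⁻¹ i)]
  · simp [permGL_apply]
  · intro b _ hb
    rw [permGL_apply, if_neg (fun h => hb (by rw [h]; simp)), zero_mul]
  · simp

/-- the pattern of the intersection with the conjugate by a permutation -/
def Pat (σ : Equiv.Perm (Fin n)) (M : Matrix (Fin n) (Fin n) F) : Prop :=
  IsUni M ∧ ∀ a b, a < b → σ⁻¹ b < σ⁻¹ a → M a b = 0

theorem isUni_perm_iff (σ : Equiv.Perm (Fin n)) {M : Matrix (Fin n) (Fin n) F} (hM : IsUni M) :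
    IsUni ((permGL n F σ)⁻¹.1 * M * (permGL n F σ).1) ↔ Pat σ M := by
  constructor
  · intro h
    refine ⟨hM, fun a b hab hinv => ?_⟩
    have := h.1 (show id (σ⁻¹ b) < id (σ⁻¹ a) from hinv)
    rwa [perm_conj_apply, apply_inv', apply_inv'] at this
  · intro h
    refine ⟨fun i j (hij : j < i) => ?_, fun i => by rw [perm_conj_apply, hM.2]⟩
    rw [perm_conj_apply]
    rcases lt_trichotomy (σ i) (σ j) with h1 | h1 | h1
    · exact h.2 _ _ h1 (by simpa using hij)
    · exact absurd (σ.injective h1) (ne_of_gt hij)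
    · exact hM.1 h1

/-- every element is a product upper triangular · permutation · upper triangular -/
theorem exists_bruhat (g : SpecialLinearGroup (Fin n) F) :
    ∃ A ∈ Cfsg.upperTriangularGL n F, ∃ B ∈ Cfsg.upperTriangularGL n F, ∃ σ : Equiv.Perm (Fin n),
      SpecialLinearGroup.toGL g = A * permGL n F σ * B := by
  obtain ⟨u, hu, v, hv, σ, h⟩ := exists_perm_upper (SpecialLinearGroup.toGL g)
  exact ⟨u⁻¹, inv_mem hu, v⁻¹, inv_mem hv, σ, by rw [← h]; group⟩

/-- the intersection of `U` with its conjugate by `g` -/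
def inter (g : SpecialLinearGroup (Fin n) F) : Subgroup (SpecialLinearGroup (Fin n) F) :=
  uniU n F ⊓ (uniU n F).map (MulAut.conj g).toMonoidHom

theorem mem_inter_iff {g : SpecialLinearGroup (Fin n) F} {A B : GL (Fin n) F}
    (hA : A ∈ Cfsg.upperTriangularGL n F) (hB : B ∈ Cfsg.upperTriangularGL n F)
    {σ : Equiv.Perm (Fin n)} (hg : SpecialLinearGroup.toGL g = A * permGL n F σ * B)
    {h : SpecialLinearGroup (Fin n) F} :
    h ∈ inter g ↔ Pat σ ((cj A).symm h).1 := by
  have hmap : h ∈ (uniU n F).map (MulAut.conj g).toMonoidHom ↔ g⁻¹ * h * g ∈ uniU n F := by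
    constructor
    · rintro ⟨w, hw, rfl⟩
      simpa [mul_assoc] using hw
    · intro hw
      exact ⟨_, hw, by simp [mul_assoc]⟩
  have hval : (g⁻¹ * h * g).1 =
      (B⁻¹).1 * ((permGL n F σ)⁻¹.1 * ((cj A).symm h).1 * (permGL n F σ).1) * B.1 := by
    have e : SpecialLinearGroup.toGL (g⁻¹ * h * g) =
        B⁻¹ * ((permGL n F σ)⁻¹ * (A⁻¹ * SpecialLinearGroup.toGL h * A) * permGL n F σ) * B := by
      rw [map_mul, map_mul, map_inv, hg]
      group
    exact (congrArg Units.val e).trans (by simp only [Units.val_mul, cj_symm_val]; rfl)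
  rw [inter, Subgroup.mem_inf, hmap, mem_uniU, mem_uniU, hval, isUni_conj_iff hB, cj_symm_val]
  constructor
  · rintro ⟨h1, h2⟩
    exact (isUni_perm_iff σ ((isUni_conj_iff hA).2 h1)).1 h2
  · intro h1
    exact ⟨(isUni_conj_iff hA).1 h1.1, (isUni_perm_iff σ h1.1).2 h1⟩

theorem transvection_pat {σ : Equiv.Perm (Fin n)} {a b : Fin n} (hab : a < b)
    (h : σ⁻¹ a < σ⁻¹ b) (c : F) : Pat σ (SpecialLinearGroup.transvection (ne_of_lt hab) c).1 := by
  rw [SpecialLinearGroup.transvection_coe]
  refine ⟨⟨fun i j (hij : j < i) => ?_, fun i => ?_⟩, fun a' b' hab' hinv => ?_⟩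
  · rw [Matrix.add_apply, Matrix.one_apply_ne (ne_of_gt hij), zero_add, Matrix.single_apply,
      if_neg]
    rintro ⟨rfl, rfl⟩
    exact lt_asymm hij hab
  · rw [Matrix.add_apply, Matrix.one_apply_eq, Matrix.single_apply, if_neg, add_zero]
    rintro ⟨rfl, rfl⟩
    exact lt_irrefl _ hab
  · rw [Matrix.add_apply, Matrix.one_apply_ne (ne_of_lt hab'), zero_add, Matrix.single_apply,
      if_neg]
    rintro ⟨rfl, rfl⟩
    exact lt_asymm h hinv

theorem eq_rev_of_inter_eq_bot {g : SpecialLinearGroup (Fin n) F} {A B : GL (Fin n) F}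
    (hA : A ∈ Cfsg.upperTriangularGL n F) (hB : B ∈ Cfsg.upperTriangularGL n F)
    {σ : Equiv.Perm (Fin n)} (hg : SpecialLinearGroup.toGL g = A * permGL n F σ * B)
    (h : inter g = ⊥) : σ = Fin.revPerm := by
  have hanti : StrictAnti (σ⁻¹ : Equiv.Perm (Fin n)) := by
    intro a b hab
    refine lt_of_le_of_ne (not_lt.1 fun hlt => ?_) (fun e => (ne_of_gt hab) ((σ⁻¹).injective e))
    have hm : cj A (SpecialLinearGroup.transvection (ne_of_lt hab) 1) ∈ inter g := by
      rw [mem_inter_iff hA hB hg, MulEquiv.symm_apply_apply]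
      exact transvection_pat hab hlt 1
    rw [h, Subgroup.mem_bot, map_eq_one_iff _ (cj A).injective] at hm
    have := congrFun (congrFun (congrArg Subtype.val hm) a) b
    simp [SpecialLinearGroup.transvection_coe, ne_of_lt hab] at this
  have hmono : StrictMono (fun i => Fin.rev ((σ⁻¹ : Equiv.Perm (Fin n)) i)) :=
    fun a b hab => Fin.rev_lt_rev.2 (hanti hab)
  have hid : (fun i => Fin.rev ((σ⁻¹ : Equiv.Perm (Fin n)) i)) = id :=
    funext fun i => le_antisymm (hmono.le_id i) (hmono.id_le i)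
  refine Equiv.ext fun i => ?_
  have := congrFun hid (σ i)
  simp only [inv_apply', id] at this
  rw [Fin.revPerm_apply, this]

/-- A group element commuting with a transvection of the pattern has both indices fixed. -/
theorem fixed_of_commute {σ : Equiv.Perm (Fin n)} {V : Matrix (Fin n) (Fin n) F}
    (hd : ∀ i, V i i ≠ 0) {a b : Fin n}
    (h : Commute ((permGL n F σ).1 * V) (Matrix.single a b 1)) : σ a = a ∧ σ b = b := by
  set X := (permGL n F σ).1 * V with hX
  have h1 : ∀ i, i ≠ a → X i a = 0 := by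
    intro i hi
    have := congrFun (congrFun h.eq i) b
    rwa [Matrix.mul_single_apply_same, mul_one, Matrix.single_mul_apply_of_ne _ _ _ _ _ hi] at this
  have h2 : ∀ l, l ≠ b → X b l = 0 := by
    intro l hl
    have := congrFun (congrFun h.eq a) l
    rw [Matrix.mul_single_apply_of_ne _ _ _ _ _ hl, Matrix.single_mul_apply_same, one_mul] at this
    exact this.symm
  constructor
  · by_contra ha
    have := h1 (σ a) ha
    rw [hX, perm_mul_apply, inv_apply'] at this
    exact hd a this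
  · by_contra hb
    have hb' : σ⁻¹ b ≠ b := fun e => hb (by conv_lhs => rw [← e, apply_inv'])
    have := h2 (σ⁻¹ b) hb'
    rw [hX, perm_mul_apply] at this
    exact hd _ this

theorem upper_diag_ne_zero {A : GL (Fin n) F} (hA : A ∈ Cfsg.upperTriangularGL n F) (i : Fin n) :
    A.1 i i ≠ 0 := by
  intro h
  have := congrFun (congrFun (Units.mul_inv A) i) i
  rw [upper_mul_diag hA ((Cfsg.upperTriangularGL n F).inv_mem hA), Matrix.one_apply_eq, h,
    zero_mul] at this
  exact zero_ne_one this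

variable (p : ℕ) [Fact p.Prime] [CharP F p]

/-- The intersection centralised by the conjugating element is trivial, everything, or not radical. -/
theorem inter_cases (g : SpecialLinearGroup (Fin n) F) (hcomm : ∀ h ∈ inter g, Commute g h) :
    inter g = ⊥ ∨ inter g = uniU n F ∨
      ∃ Q : Subgroup (Subgroup.normalizer (inter g : Set (SpecialLinearGroup (Fin n) F))),
        Q.Normal ∧ IsPGroup p Q ∧ ¬ Q.map (Subgroup.subtype _) ≤ inter g := by
  classical
  obtain ⟨A, hA, B, hB, σ, hg⟩ := exists_bruhat g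
  have hiff := @mem_inter_iff n F _ g A B hA hB σ hg
  have hfix : ∀ a b : Fin n, a < b → σ⁻¹ a < σ⁻¹ b → σ a = a ∧ σ b = b := by
    intro a b hab hlt
    have hm : cj A (SpecialLinearGroup.transvection (ne_of_lt hab) 1) ∈ inter g := by
      rw [hiff, MulEquiv.symm_apply_apply]
      exact transvection_pat hab hlt 1
    have hc : Commute ((cj A).symm g) (SpecialLinearGroup.transvection (ne_of_lt hab) 1) := by
      have := (hcomm _ hm).map (cj A).symm
      rwa [MulEquiv.symm_apply_apply] at this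
    have hc' : Commute ((permGL n F σ).1 * (B * A).1)
        (1 + Matrix.single a b (1 : F)) := by
      have e : ((cj A).symm g).1 = (permGL n F σ).1 * (B * A).1 := by
        rw [cj_symm_val, show g.1 = (SpecialLinearGroup.toGL g).1 from rfl, hg]
        simp [Matrix.mul_assoc]
      have := congrArg Subtype.val hc.eq
      change ((cj A).symm g).1 * (SpecialLinearGroup.transvection (ne_of_lt hab) (1 : F)).1 =
        (SpecialLinearGroup.transvection (ne_of_lt hab) (1 : F)).1 * ((cj A).symm g).1 at this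
      rw [e, SpecialLinearGroup.transvection_coe] at this
      exact this
    have hBA : B * A ∈ Cfsg.upperTriangularGL n F := mul_mem hB hA
    refine fixed_of_commute (upper_diag_ne_zero hBA) ?_
    simpa using hc'.sub_right (Commute.one_right _)
  by_cases h0 : ∀ a b : Fin n, a < b → σ⁻¹ b < σ⁻¹ a
  · left
    rw [Subgroup.eq_bot_iff_forall]
    intro h hh
    have hp := hiff.1 hh
    rw [← map_eq_one_iff _ (cj A).symm.injective]
    refine Subtype.ext (Matrix.ext fun i j => ?_)
    rcases lt_trichotomy i j with h1 | rfl | h1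
    · rw [hp.2 i j h1 (h0 i j h1)]
      simp [ne_of_lt h1]
    · rw [hp.1.2]
      simp
    · rw [hp.1.1 h1]
      simp [ne_of_gt h1]
  right
  by_cases h1 : σ = 1
  · left
    subst h1
    refine le_antisymm inf_le_left fun h hh => hiff.2 ?_
    refine ⟨(isUni_conj_iff hA).2 hh, fun a b hab hinv => ?_⟩
    rw [inv_one, Equiv.Perm.one_apply, Equiv.Perm.one_apply] at hinv
    exact absurd hab (lt_asymm hinv)
  right
  obtain ⟨k, hk⟩ : ∃ k, σ k ≠ k := by
    by_contra hc
    push Not at hc
    exact h1 (Equiv.ext hc)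
  let S : Finset (Fin n) := Finset.univ.filter fun i => ∃ b, i < b ∧ σ⁻¹ i < σ⁻¹ b
  have hS : S.Nonempty := by
    push Not at h0
    obtain ⟨a, b, hab, hle⟩ := h0
    exact ⟨a, Finset.mem_filter.2 ⟨Finset.mem_univ _, b, hab,
      lt_of_le_of_ne hle fun e => (ne_of_lt hab) ((σ⁻¹).injective e)⟩⟩
  obtain ⟨b, hab, hlt⟩ := (Finset.mem_filter.1 (S.min'_mem hS)).2
  set a := S.min' hS with ha
  have haF := (hfix a b hab hlt).1
  have hak : a ≠ k := fun e => hk (e ▸ haF)
  -- rows at `k` and the column at `a` are trivial in the pattern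
  have hrow : ∀ M : Matrix (Fin n) (Fin n) F, Pat σ M → ∀ l, (M - 1) k l = 0 := by
    intro M hM l
    rw [Matrix.sub_apply]
    rcases lt_trichotomy k l with h1 | rfl | h1
    · rw [hM.2 k l h1 (lt_of_le_of_ne (not_lt.1 fun h2 => hk (hfix k l h1 h2).1)
        fun e => (ne_of_gt h1) ((σ⁻¹).injective e)), Matrix.one_apply_ne (ne_of_lt h1), sub_zero]
    · rw [hM.1.2, Matrix.one_apply_eq, sub_self]
    · rw [show M k l = 0 from hM.1.1 h1, Matrix.one_apply_ne (ne_of_gt h1), sub_zero]
  have hcol : ∀ M : Matrix (Fin n) (Fin n) F, Pat σ M → ∀ i, (M - 1) i a = 0 := by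
    intro M hM i
    rw [Matrix.sub_apply]
    rcases lt_trichotomy i a with h1 | rfl | h1
    · rw [hM.2 i a h1 (lt_of_le_of_ne (not_lt.1 fun h2 => not_le.2 h1
        (S.min'_le i (Finset.mem_filter.2 ⟨Finset.mem_univ _, a, h1, h2⟩)))
        fun e => (ne_of_gt h1) ((σ⁻¹).injective e)), Matrix.one_apply_ne (ne_of_lt h1), sub_zero]
    · rw [hM.1.2, Matrix.one_apply_eq, sub_self]
    · rw [show M i a = 0 from hM.1.1 h1, Matrix.one_apply_ne (ne_of_gt h1), sub_zero]
  set E := inter g with hE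
  set N := Subgroup.normalizer (E : Set (SpecialLinearGroup (Fin n) F)) with hN
  let W : Submodule F (Fin n → F) :=
    Submodule.span F {w | ∃ h ∈ E, ∃ v, w = h.1 *ᵥ v - v}
  have hWcoord : ∀ w ∈ W, ((A⁻¹).1 *ᵥ w) k = 0 := by
    intro w hw
    induction hw using Submodule.span_induction with
    | mem w hw =>
      obtain ⟨h, hh, v, rfl⟩ := hw
      have e : (A⁻¹).1 *ᵥ (h.1 *ᵥ v - v) = (((cj A).symm h).1 - 1) *ᵥ ((A⁻¹).1 *ᵥ v) := by
        rw [cj_symm_val, Matrix.sub_mulVec, Matrix.one_mulVec, Matrix.mulVec_sub,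
          Matrix.mulVec_mulVec, Matrix.mulVec_mulVec]
        simp [Matrix.mul_assoc]
      rw [e, Matrix.mulVec, dotProduct, Finset.sum_eq_zero fun l _ => by
        rw [hrow _ (hiff.1 hh) l, zero_mul]]
    | zero => simp
    | add x y _ _ hx hy => rw [Matrix.mulVec_add, Pi.add_apply, hx, hy, add_zero]
    | smul c x _ hx => rw [Matrix.mulVec_smul, Pi.smul_apply, hx, smul_zero]
  have hWinv : ∀ m ∈ N, ∀ w ∈ W, m.1 *ᵥ w ∈ W := by
    intro m hm w hw
    induction hw using Submodule.span_induction with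
    | mem w hw =>
      obtain ⟨h, hh, v, rfl⟩ := hw
      refine Submodule.subset_span ⟨m * h * m⁻¹, (Subgroup.mem_normalizer_iff.1 hm h).1 hh,
        m.1 *ᵥ v, ?_⟩
      rw [Matrix.mulVec_sub, Matrix.mulVec_mulVec, Matrix.mulVec_mulVec]
      show (m * h).1 *ᵥ v - _ = (m * h * m⁻¹ * m).1 *ᵥ v - _
      rw [inv_mul_cancel_right]
    | zero => simp
    | add x y _ _ hx hy => rw [Matrix.mulVec_add]; exact W.add_mem hx hy
    | smul c x _ hx => rw [Matrix.mulVec_smul]; exact W.smul_mem c hx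
  have hval : ∀ x y : N, ∀ v : Fin n → F,
      (x * y).1.1 *ᵥ v = x.1.1 *ᵥ (y.1.1 *ᵥ v) := fun x y v => by
    rw [Matrix.mulVec_mulVec]; rfl
  let Q : Subgroup N :=
    { carrier := {m | (∀ v, m.1.1 *ᵥ v - v ∈ W) ∧ ∀ w ∈ W, m.1.1 *ᵥ w = w}
      one_mem' := ⟨fun v => by simp, fun w _ => by simp⟩
      mul_mem' := fun {x y} hx hy => ⟨fun v => by
          have := W.add_mem (hx.1 (y.1.1 *ᵥ v)) (hy.1 v)
          rwa [sub_add_sub_cancel, ← hval] at this,
        fun w hw => by rw [hval, hy.2 w hw, hx.2 w hw]⟩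
      inv_mem' := fun {x} hx => by
        have key : ∀ v, x.1.1 *ᵥ ((x⁻¹).1.1 *ᵥ v) = v := fun v => by
          rw [← hval, mul_inv_cancel]; simp
        refine ⟨fun v => ?_, fun w hw => ?_⟩
        · have := W.neg_mem (hx.1 ((x⁻¹).1.1 *ᵥ v))
          rwa [key, neg_sub] at this
        · have := congrArg (fun u => (x⁻¹).1.1 *ᵥ u) (hx.2 w hw)
          simp only [← hval, inv_mul_cancel] at this
          simpa using this.symm }
  have hQn : Q.Normal := ⟨fun x hx m => by
    refine ⟨fun v => ?_, fun w hw => ?_⟩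
    · have h2 := hWinv m.1 m.2 _ (hx.1 ((m⁻¹).1.1 *ᵥ v))
      rwa [Matrix.mulVec_sub, ← hval, ← hval, ← hval, mul_inv_cancel, show ((1 : N).1.1 *ᵥ v) = v by
        simp] at h2
    · rw [hval, hval, hx.2 _ (hWinv _ (m⁻¹).2 w hw), ← hval, mul_inv_cancel]
      simp⟩
  have hQp : IsPGroup p Q := fun x => ⟨1, by
    have hnil : (x.1.1.1 - 1) * (x.1.1.1 - 1) = 0 := by
      refine Matrix.ext_of_mulVec_single fun i => ?_
      rw [← Matrix.mulVec_mulVec, Matrix.zero_mulVec]
      simp only [Matrix.sub_mulVec, Matrix.one_mulVec]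
      exact sub_eq_zero.2 (x.2.2 _ (x.2.1 _))
    haveI : CharP (Matrix (Fin n) (Fin n) F) p :=
      haveI : Nonempty (Fin n) := ⟨k⟩
      Matrix.charP (n := Fin n) p
    refine Subtype.ext (Subtype.ext (Subtype.ext ?_))
    simp only [pow_one, Subgroup.coe_pow, Subgroup.coe_one]
    have hz : (x.1.1.1 - 1) ^ p = 0 := by
      obtain ⟨j, hj⟩ : ∃ j, p = j + 2 := ⟨p - 2, by have := (Fact.out : p.Prime).two_le; omega⟩
      rw [hj, pow_add, sq, hnil, mul_zero]
    rw [sub_pow_char_of_commute p (Commute.one_right _), one_pow, sub_eq_zero] at hz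
    exact hz⟩
  let T := SpecialLinearGroup.transvection hak (1 : F)
  have hTmem : cj A T ∈ N := by
    refine Subgroup.centralizer_le_normalizer _ (Subgroup.mem_centralizer_iff.2 fun h hh => ?_)
    apply (cj A).symm.injective
    rw [map_mul, map_mul, MulEquiv.symm_apply_apply]
    refine Subtype.ext ?_
    set M := ((cj A).symm h).1 with hM
    have hp : Pat σ M := hiff.1 hh
    have z1 : (M - 1) * Matrix.single a k (1 : F) = 0 := by
      ext i l
      rcases eq_or_ne l k with rfl | hl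
      · rw [Matrix.mul_single_apply_same, hcol M hp i]; simp
      · rw [Matrix.mul_single_apply_of_ne _ _ _ _ _ hl]; simp
    have z2 : Matrix.single a k (1 : F) * (M - 1) = 0 := by
      ext i l
      rcases eq_or_ne i a with rfl | hi
      · rw [Matrix.single_mul_apply_same, hrow M hp l]; simp
      · rw [Matrix.single_mul_apply_of_ne _ _ _ _ _ hi]; simp
    rw [sub_mul, one_mul, sub_eq_zero] at z1
    rw [mul_sub, mul_one, sub_eq_zero] at z2
    show M * (1 + Matrix.single a k (1 : F)) = (1 + Matrix.single a k (1 : F)) * M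
    rw [mul_add, add_mul, mul_one, one_mul, z1, z2]
  have hTW : ∀ v : Fin n → F, (cj A T).1 *ᵥ v - v =
      ((A⁻¹).1 *ᵥ v) k • (A.1 *ᵥ Pi.single a 1) := by
    intro v
    rw [cj_val, SpecialLinearGroup.transvection_coe, ← Matrix.mulVec_mulVec, ← Matrix.mulVec_mulVec,
      Matrix.add_mulVec, Matrix.one_mulVec, Matrix.mulVec_add, Matrix.mulVec_mulVec,
      ← Units.val_mul, mul_inv_cancel, Units.val_one, Matrix.one_mulVec, add_sub_cancel_left,
      Matrix.single_mulVec, one_mul, ← Matrix.mulVec_smul]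
    congr 1
    ext i
    simp only [Function.update_apply, Pi.smul_apply, Pi.single_apply, Pi.zero_apply, smul_eq_mul]
    split_ifs <;> simp
  have hAa : A.1 *ᵥ Pi.single a 1 ∈ W := by
    refine Submodule.subset_span ⟨cj A (SpecialLinearGroup.transvection (ne_of_lt hab) 1),
      hiff.2 (by rw [MulEquiv.symm_apply_apply]; exact transvection_pat hab hlt 1),
      A.1 *ᵥ Pi.single b 1, ?_⟩
    rw [cj_val, SpecialLinearGroup.transvection_coe, Matrix.mulVec_mulVec, Matrix.mul_assoc,
      Units.inv_mul, mul_one, ← Matrix.mulVec_mulVec, Matrix.add_mulVec, Matrix.one_mulVec,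
      Matrix.mulVec_add, add_sub_cancel_left, Matrix.single_mulVec]
    congr 1
    ext i
    simp only [Function.update_apply, Pi.single_apply, Pi.zero_apply, if_true, mul_one]
  have hTQ : (⟨cj A T, hTmem⟩ : N) ∈ Q := by
    refine ⟨fun v => ?_, fun w hw => ?_⟩
    · rw [hTW]; exact W.smul_mem _ hAa
    · rw [← sub_eq_zero, hTW, hWcoord w hw, zero_smul]
  refine ⟨Q, hQn, hQp, fun hle => ?_⟩
  have hm : cj A T ∈ E := hle ⟨_, hTQ, rfl⟩
  have hp := hiff.1 hm
  rw [MulEquiv.symm_apply_apply] at hp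
  have hT1 : T.1 a k = 1 := by
    show ((1 : Matrix (Fin n) (Fin n) F) + Matrix.single a k (1 : F)) a k = 1
    rw [Matrix.add_apply, Matrix.one_apply_ne hak, zero_add, Matrix.single_apply,
      if_pos ⟨rfl, rfl⟩]
  rcases lt_or_gt_of_ne hak with hlt' | hgt
  · have hinv : σ⁻¹ k < σ⁻¹ a := lt_of_le_of_ne (not_lt.1 fun h3 => hk (hfix a k hlt' h3).2)
      fun e => hak ((σ⁻¹).injective e).symm
    exact one_ne_zero (hT1.symm.trans (hp.2 a k hlt' hinv))
  · exact one_ne_zero (hT1.symm.trans (hp.1.1 hgt))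

end Cfsg.Agent.SLBlocks
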