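import Cfsg.Agent.Lib.SLBlocks.Unitri
import Cfsg.Agent.Lib.Blocks.FirstMain
import Cfsg.Agent.Lib.Classical.SL

/-!
# Defect groups of the special linear group in its own characteristic
-/

set_option autoImplicit false
set_option linter.unusedSectionVars false
set_option linter.style.haveILetI false

namespace Cfsg.Agent.SLBlocks

open Matrix Cfsg Cfsg.Agent.Blocks

universe u

variable {n : ℕ} {F : Type u} [Field F] [Fintype F] (p : ℕ) [Fact p.Prime] [CharP F p]

theorem isPGroup_uniU : IsPGroup p (uniU n F) := by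
  rcases Nat.eq_zero_or_pos n with rfl | hn
  · exact fun x => ⟨0, Subtype.ext (Subsingleton.elim _ _)⟩
  intro x
  refine ⟨n, Subtype.ext (Subtype.ext ?_)⟩
  haveI : Nonempty (Fin n) := ⟨⟨0, hn⟩⟩
  haveI : CharP (Matrix (Fin n) (Fin n) F) p := Matrix.charP (n := Fin n) p
  show x.1.1 ^ p ^ n = 1
  have hchar : x.1.1.charpoly = (Polynomial.X - 1) ^ n := by
    rw [Matrix.charpoly_of_isUpperTriangular _ x.2.1]
    simp [x.2.2]
  have h0 : (x.1.1 - 1) ^ n = 0 := by
    have := Matrix.aeval_self_charpoly x.1.1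
    rw [hchar] at this
    simpa using this
  have hle : n ≤ p ^ n := (Nat.lt_pow_self (Fact.out : p.Prime).one_lt).le
  have h1 : (x.1.1 - 1) ^ p ^ n = 0 := by
    obtain ⟨j, hj⟩ := Nat.exists_eq_add_of_le hle
    rw [hj, pow_add, h0, zero_mul]
  rwa [sub_pow_char_pow_of_commute p n (Commute.one_right _), one_pow, sub_eq_zero] at h1

theorem coprime_units : Nat.Coprime (Nat.card Fˣ) p := by
  obtain ⟨a, hp, hF⟩ := FiniteField.card F p
  rw [Nat.card_units, Nat.card_eq_fintype_card, hF, Nat.coprime_comm, hp.coprime_iff_not_dvd]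
  intro h
  have h2 : p ∣ p ^ (a : ℕ) := dvd_pow_self p a.2.ne'
  have h3 : 1 ≤ p ^ (a : ℕ) := Nat.one_le_pow _ _ hp.pos
  exact hp.not_dvd_one (by
    have := Nat.dvd_sub h2 h
    rwa [Nat.sub_sub_self h3] at this)

/-- An upper triangular element of `p`-power order is unitriangular. -/
theorem mem_uniU_of_upper {y : SpecialLinearGroup (Fin n) F} (hy : y.1.IsUpperTriangular) {j : ℕ}
    (hj : y ^ p ^ j = 1) : y ∈ uniU n F := by
  refine ⟨hy, fun i => ?_⟩
  have hpow : ∀ m : ℕ, (y ^ m).1.IsUpperTriangular ∧ (y ^ m).1 i i = y.1 i i ^ m := by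
    intro m
    induction m with
    | zero => exact ⟨by simpa using Matrix.blockTriangular_one, by simp⟩
    | succ m ih =>
      refine ⟨?_, ?_⟩
      · rw [pow_succ]; exact ih.1.mul hy
      · rw [pow_succ, pow_succ]
        show ((y ^ m).1 * y.1) i i = _
        rw [upper_mul_diag ih.1 hy, ih.2]
  have h1 := (hpow (p ^ j)).2
  rw [hj] at h1
  change (1 : Matrix (Fin n) (Fin n) F) i i = _ at h1
  rw [Matrix.one_apply_eq] at h1
  have h2 : (y.1 i i - 1) ^ p ^ j = 0 := by rw [sub_pow_char_pow, one_pow, ← h1, sub_self]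
  exact sub_eq_zero.1 (pow_eq_zero_iff (pow_ne_zero _ (Fact.out : p.Prime).ne_zero) |>.1 h2)

theorem uniU_maximal {Q : Subgroup (SpecialLinearGroup (Fin n) F)} (hQ : IsPGroup p Q)
    (hle : uniU n F ≤ Q) : uniU n F = Q := by
  classical
  haveI : Fintype (SpecialLinearGroup (Fin n) F) := Fintype.ofFinite _
  refine eq_of_normalizer_inter_le (p := p) hQ hle fun y hy hyN => ?_
  obtain ⟨A, hA, B, hB, σ, hg⟩ := exists_bruhat y
  have hinter : inter y = uniU n F := by
    refine le_antisymm inf_le_left fun h hh => ⟨hh, ?_⟩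
    refine ⟨y⁻¹ * h * y, ?_, by simp [mul_assoc]⟩
    have := (Subgroup.mem_normalizer_iff.1 (inv_mem hyN) h).1 hh
    simpa using this
  have hσ : σ = 1 := by
    have hmono : StrictMono (σ⁻¹ : Equiv.Perm (Fin n)) := by
      intro a b hab
      refine lt_of_le_of_ne (not_lt.1 fun hlt => ?_) (fun e => (ne_of_lt hab) ((σ⁻¹).injective e))
      have hm : cj A (SpecialLinearGroup.transvection (ne_of_lt hab) 1) ∈ inter y := by
        rw [hinter]
        refine (isUni_conj hA ?_ : IsUni _)
        exact (transvection_pat (σ := 1) hab (by simpa using hab) (1 : F)).1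
      have := ((mem_inter_iff hA hB hg).1 hm).2 a b hab hlt
      rw [MulEquiv.symm_apply_apply, SpecialLinearGroup.transvection_coe, Matrix.add_apply,
        Matrix.one_apply_ne (ne_of_lt hab), zero_add, Matrix.single_apply, if_pos ⟨rfl, rfl⟩] at this
      exact one_ne_zero this
    refine inv_eq_one.1 (Equiv.ext fun i => ?_)
    exact le_antisymm (hmono.le_id i) (hmono.id_le i)
  subst hσ
  rw [map_one, mul_one] at hg
  have hup : y.1.IsUpperTriangular := by
    have : SpecialLinearGroup.toGL y ∈ Cfsg.upperTriangularGL n F := hg ▸ mul_mem hA hB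
    exact this
  obtain ⟨j, hj⟩ := hQ ⟨y, hy⟩
  exact mem_uniU_of_upper p hup (congrArg Subtype.val hj)

/-- The upper unitriangular group as a Sylow subgroup. -/
noncomputable def sylU (n : ℕ) (F : Type u) [Field F] [Fintype F] (p : ℕ) [Fact p.Prime] [CharP F p] :
    Sylow p (SpecialLinearGroup (Fin n) F) :=
  { uniU n F with
    isPGroup' := isPGroup_uniU p
    is_maximal' := fun hQ hle => (uniU_maximal p hQ hle).symm }

theorem sylU_coe : (sylU n F p : Subgroup (SpecialLinearGroup (Fin n) F)) = uniU n F := rfl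

variable {M : Ideal AlgInt}

/-- Every block has defect zero or full defect, with a defect group trivial or a Sylow subgroup. -/
theorem defect_cases (hM : IsPModular p M) [Fintype (SpecialLinearGroup (Fin n) F)]
    {B : Set (IrrCharacter (SpecialLinearGroup (Fin n) F))} (hB : IsPBlock M B) :
    (blockDefect p B = 0 ∧ IsDefectGroup p M B ⊥) ∨
      (blockDefect p B = (Nat.card (SpecialLinearGroup (Fin n) F)).factorization p ∧
        IsDefectGroup p M B (uniU n F)) := by
  haveI : M.IsPrime := hM.2.1.isPrime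
  obtain ⟨D, hD⟩ := exists_isDefectGroup (p := p) (M := M) hB
  obtain ⟨z, c, -, -, hzE, hzc⟩ := exists_sylow_inter hM hB hD (sylU n F p)
  have hD' : IsDefectGroup p M B (inter z⁻¹) := by
    rw [show inter z⁻¹ = D.map (MulAut.conj c).toMonoidHom from hzE]
    exact Cfsg.Agent.Blocks.IsDefectGroup.map_conj hD c
  have hcomm : ∀ h ∈ inter z⁻¹, Commute z⁻¹ h := by
    intro h hh
    rw [show inter z⁻¹ = D.map (MulAut.conj c).toMonoidHom from hzE] at hh
    obtain ⟨d, hd, rfl⟩ := hh
    exact (hzc d hd).inv_left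
  have hcard := card_defectGroup hM hB hD'
  rcases inter_cases p z⁻¹ hcomm with h | h | ⟨Q, hQn, hQp, hQ⟩
  · refine Or.inl ⟨?_, h ▸ hD'⟩
    rw [h, Subgroup.card_bot] at hcard
    exact (Nat.pow_eq_one.1 hcard.symm).resolve_left (Fact.out : p.Prime).ne_one
  · refine Or.inr ⟨?_, h ▸ hD'⟩
    rw [h, ← sylU_coe p, Sylow.card_eq_multiplicity] at hcard
    exact (Nat.pow_right_injective (Fact.out : p.Prime).two_le hcard).symm
  · refine absurd ?_ hQ
    conv_rhs => rw [← defectGroup_eq_pCore_normalizer hM hB hD']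
    exact Subgroup.map_mono (Cfsg.Agent.PBasic.le_pCore hQn hQp)

/-- The elements centralising the unitriangular group. -/
theorem eq_scalar_add_of_centralizes (hn : 2 ≤ n) {g : SpecialLinearGroup (Fin n) F}
    (hg : g ∈ Subgroup.centralizer (uniU n F : Set (SpecialLinearGroup (Fin n) F))) :
    ∃ (c : F) (d : F), g.1 = Matrix.scalar (Fin n) c +
      Matrix.single ⟨0, by omega⟩ ⟨n - 1, by omega⟩ d := by
  set f : Fin n := ⟨0, by omega⟩ with hf
  set l : Fin n := ⟨n - 1, by omega⟩ with hl
  have hc : ∀ a b : Fin n, a < b → (∀ i, i ≠ a → g.1 i a = 0) ∧ (∀ i, i ≠ b → g.1 b i = 0) ∧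
      g.1 a a = g.1 b b := by
    intro a b hab
    have hm : SpecialLinearGroup.transvection (ne_of_lt hab) (1 : F) ∈ uniU n F :=
      (transvection_pat (σ := 1) hab (by simpa using hab) (1 : F)).1
    have h := congrArg Subtype.val (Subgroup.mem_centralizer_iff.1 hg _ hm)
    change (1 + Matrix.single a b (1 : F)) * g.1 = g.1 * (1 + Matrix.single a b (1 : F)) at h
    rw [add_mul, mul_add, one_mul, mul_one, add_left_cancel_iff] at h
    refine ⟨fun i hi => ?_, fun i hi => ?_, ?_⟩
    · have := congrFun (congrFun h i) b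
      rwa [Matrix.mul_single_apply_same, Matrix.single_mul_apply_of_ne _ _ _ _ _ hi, mul_one, eq_comm]
        at this
    · have := congrFun (congrFun h a) i
      rwa [Matrix.single_mul_apply_same, Matrix.mul_single_apply_of_ne _ _ _ _ _ hi, one_mul] at this
    · have := congrFun (congrFun h a) b
      rw [Matrix.single_mul_apply_same, Matrix.mul_single_apply_same, one_mul, mul_one] at this
      exact this.symm
  refine ⟨g.1 f f, g.1 f l, Matrix.ext fun i j => ?_⟩
  rw [Matrix.add_apply, Matrix.scalar_apply]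
  rcases eq_or_ne i j with rfl | hij
  · rw [Matrix.diagonal_apply_eq, Matrix.single_apply, if_neg, add_zero]
    · rcases eq_or_ne i f with rfl | hif
      · rfl
      · exact ((hc f i (lt_of_le_of_ne (Nat.zero_le _ : f.val ≤ i.val) (Ne.symm hif))).2.2).symm
    · rintro ⟨h1, h2⟩
      have := congrArg Fin.val (h1.trans h2.symm)
      simp only [f, l] at this
      omega
  · rw [Matrix.diagonal_apply_ne _ hij, zero_add, Matrix.single_apply]
    split_ifs with h
    · rw [← h.1, ← h.2]
    · rcases eq_or_ne i f with rfl | hif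
      · have hjl : j ≠ l := fun e => h ⟨rfl, e.symm⟩
        exact (hc j l (lt_of_le_of_ne (show j.val ≤ n - 1 by omega) hjl)).1 f hij
      · exact (hc f i (lt_of_le_of_ne (Nat.zero_le _ : f.val ≤ i.val) (Ne.symm hif))).2.1 j (Ne.symm hij)

/-- The number of blocks of full defect is the order of the centre. -/
theorem card_blocks_full (hn : 2 ≤ n) (hM : IsPModular p M) [Fintype (SpecialLinearGroup (Fin n) F)] :
    Nat.card {B : Set (IrrCharacter (SpecialLinearGroup (Fin n) F)) //
        IsPBlock M B ∧ IsDefectGroup p M B (uniU n F)} = Nat.gcd n (Fintype.card F - 1) := by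
  haveI : M.IsPrime := hM.2.1.isPrime
  haveI : Nonempty (Fin n) := ⟨⟨0, by omega⟩⟩
  rw [← sylU_coe p, card_blocks_sylow_defect hM (sylU n F p)]
  have hz := Cfsg.Agent.ClassicalSL.card_center_sl (ι := Fin n) (F := F)
  rw [Fintype.card_fin, Nat.card_eq_fintype_card (α := F)] at hz
  rw [← hz]
  set G := SpecialLinearGroup (Fin n) F with hG
  set N := Subgroup.normalizer ((sylU n F p : Subgroup G) : Set G) with hN
  have hzN : Subgroup.center G ≤ N := le_trans (Subgroup.center_le_centralizer _)
    (Subgroup.centralizer_le_normalizer _)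
  have hcen : ∀ m : N, (m : G) ∈ Subgroup.center G ↔
      ¬ p ∣ orderOf m ∧ (m : G) ∈ Subgroup.centralizer ((sylU n F p : Subgroup G) : Set G) := by
    intro m
    constructor
    · intro hm
      refine ⟨fun h => ?_, Subgroup.center_le_centralizer _ hm⟩
      rw [← Subgroup.orderOf_coe] at h
      have h2 : orderOf (m : G) ∣ Nat.card (Subgroup.center G) := by
        rw [← Subgroup.orderOf_mk _ hm]; exact orderOf_dvd_natCard _
      have h3 : Nat.card (Subgroup.center G) ∣ Nat.card Fˣ := by
        rw [hz, Nat.card_units, Nat.card_eq_fintype_card]; exact Nat.gcd_dvd_right _ _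
      exact (Fact.out : p.Prime).not_dvd_one
        ((coprime_units (F := F) p) ▸ Nat.dvd_gcd (h.trans (h2.trans h3)) dvd_rfl)
    · rintro ⟨hreg, hm⟩
      obtain ⟨c, d, hcd⟩ := eq_scalar_add_of_centralizes hn hm
      have hd : d = 0 := by
        -- the power by `p` is scalar, and prime to the order
        set S := Matrix.single (⟨0, by omega⟩ : Fin n) (⟨n - 1, by omega⟩ : Fin n) d with hS
        have hS2 : S * S = 0 := Matrix.single_mul_single_of_ne _ _ _ _ (by
          simp only [ne_eq, Fin.mk.injEq]; omega) _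
        haveI : CharP (Matrix (Fin n) (Fin n) F) p := Matrix.charP (n := Fin n) p
        have hpow : ((m : G) ^ p).1 = Matrix.scalar (Fin n) (c ^ p) := by
          show (m : G).1 ^ p = _
          rw [hcd,
            add_pow_char_of_commute p (Matrix.scalar_commute c (Commute.all c) _), ← map_pow]
          obtain ⟨j, hj⟩ : ∃ j, p = j + 2 := ⟨p - 2, by have := (Fact.out : p.Prime).two_le; omega⟩
          have : S ^ p = 0 := by rw [hj, pow_add, sq, hS2, mul_zero]
          rw [this, add_zero]
        have hcomm : (m : G) ∈ Subgroup.zpowers ((m : G) ^ p) := by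
          rw [Subgroup.orderOf_coe m |>.symm] at hreg
          have hc : Nat.Coprime p (orderOf (m : G)) := (Fact.out : p.Prime).coprime_iff_not_dvd.2 hreg
          obtain ⟨r, hr⟩ := exists_pow_eq_self_of_coprime hc
          exact ⟨(r : ℤ), (zpow_natCast _ r).trans hr⟩
        have hcent : (m : G) ^ p ∈ Subgroup.center G := Subgroup.mem_center_iff.2 fun y =>
          Subtype.ext (by
            show y.1 * ((m : G) ^ p).1 = ((m : G) ^ p).1 * y.1
            rw [hpow]
            exact (Matrix.scalar_commute (c ^ p) (Commute.all _) y.1).eq.symm)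
        have hmc : (m : G) ∈ Subgroup.center G := Subgroup.zpowers_le.2 hcent hcomm
        obtain ⟨r, -, hr⟩ := Matrix.SpecialLinearGroup.mem_center_iff.1 hmc
        have := congrFun (congrFun (hr.trans hcd) ⟨0, by omega⟩) ⟨n - 1, by omega⟩
        rw [Matrix.add_apply, Matrix.scalar_apply, Matrix.scalar_apply,
          Matrix.diagonal_apply_ne _ (by simp only [ne_eq, Fin.mk.injEq]; omega),
          Matrix.diagonal_apply_ne _ (by simp only [ne_eq, Fin.mk.injEq]; omega), zero_add, hS,
          Matrix.single_apply_same] at this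
        exact this.symm
      rw [hd, Matrix.single_zero, add_zero] at hcd
      refine Subgroup.mem_center_iff.2 fun y => Subtype.ext ?_
      show y.1 * (m : G).1 = (m : G).1 * y.1
      rw [hcd]
      exact (Matrix.scalar_commute c (Commute.all _) y.1).eq.symm
  refine Nat.card_eq_of_bijective (fun C : {C : ConjClasses N // _} =>
    (⟨(C.1.exists_rep.choose : G), (hcen _).2 (C.2 _ C.1.exists_rep.choose_spec)⟩ : Subgroup.center G))
    ⟨?_, ?_⟩
  · intro C C' h
    have h' : C.1.exists_rep.choose = C'.1.exists_rep.choose :=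
      Subtype.ext (congrArg (fun z : Subgroup.center G => (z : G)) h)
    exact Subtype.ext (by rw [← C.1.exists_rep.choose_spec, ← C'.1.exists_rep.choose_spec, h'])
  · intro z
    let m : N := ⟨z.1, hzN z.2⟩
    have hconj : ∀ x : N, IsConj m x → x = m := by
      intro x hx
      obtain ⟨e, he⟩ := isConj_iff.1 hx
      refine Subtype.ext ?_
      rw [← he]
      show (e : G) * z.1 * (e : G)⁻¹ = z.1
      rw [Subgroup.mem_center_iff.1 z.2, mul_inv_cancel_right]
    refine ⟨⟨ConjClasses.mk m, fun x hx => ?_⟩, ?_⟩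
    · rw [hconj x (ConjClasses.mk_eq_mk_iff_isConj.1 hx.symm)]
      exact (hcen m).1 z.2
    · refine Subtype.ext ?_
      show ((ConjClasses.mk m).exists_rep.choose : G) = z.1
      rw [hconj _ (ConjClasses.mk_eq_mk_iff_isConj.1 (ConjClasses.mk m).exists_rep.choose_spec.symm)]

end Cfsg.Agent.SLBlocks
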