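import Mathlib.FieldTheory.ChevalleyWarning
import Mathlib.LinearAlgebra.Matrix.Charpoly.Univ
import Mathlib.LinearAlgebra.Matrix.Block
import Mathlib.RingTheory.MvPolynomial.Homogeneous
import Mathlib.Tactic

/-!
# Characteristic polynomials of matrices vanishing below the antidiagonal

For a finite field with `q` elements, the matrices with prescribed nonzero antidiagonal and zero below it
take each admissible characteristic polynomial a number of times congruent to `±1` modulo the
characteristic.
-/

set_option autoImplicit false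
set_option linter.unusedSectionVars false
set_option linter.style.haveILetI false

namespace Cfsg.Agent.SLBlocks

open Finset Matrix

universe u

/-- the positions strictly above the antidiagonal -/
abbrev Free (m : ℕ) : Type := {ij : Fin m × Fin m // ij.1.val + ij.2.val + 1 < m}

/-- the matrix with given antidiagonal, given entries above it and zeros below it -/
def antiMat {R : Type*} [Zero R] (m : ℕ) (a : Fin m → R) (x : Free m → R) :
    Matrix (Fin m) (Fin m) R :=
  Matrix.of fun i j => if h : i.val + j.val + 1 < m then x ⟨(i, j), h⟩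
    else if i.val + j.val + 1 = m then a i else 0

theorem antiMat_map {R S : Type*} [Semiring R] [Semiring S] (φ : R →+* S) (m : ℕ) (a : Fin m → R)
    (x : Free m → R) : (antiMat m a x).map φ = antiMat m (φ ∘ a) (φ ∘ x) := by
  ext i j
  simp only [antiMat, Matrix.map_apply, Matrix.of_apply, Function.comp_apply]
  split_ifs <;> simp

/-- the number of positions above the antidiagonal -/
def splitFree (m : ℕ) : Free (m + 1) ≃ Free m ⊕ Fin m where
  toFun s := if h : s.1.1.val + s.1.2.val + 1 < m then
      Sum.inl ⟨(⟨s.1.1.val, by omega⟩, ⟨s.1.2.val, by omega⟩), h⟩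
    else Sum.inr ⟨s.1.1.val, by have := s.2; omega⟩
  invFun := Sum.elim (fun s => ⟨(s.1.1.castSucc, s.1.2.castSucc), by have := s.2; simp; omega⟩)
    (fun i => ⟨(i.castSucc, i.rev.castSucc), by simp [Fin.val_rev]; omega⟩)
  left_inv s := by
    dsimp only
    split_ifs with h
    · simp only [Sum.elim_inl]
      ext <;> simp
    · simp only [Sum.elim_inr]
      have := s.2
      ext <;> simp [Fin.val_rev]
      omega
  right_inv := by
    rintro (⟨⟨i, j⟩, h⟩ | i)
    · dsimp only [Sum.elim_inl, Fin.val_castSucc]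
      split_ifs with h'
      · rfl
      · exact absurd h h'
    · dsimp only [Sum.elim_inr, Fin.val_castSucc]
      split_ifs with h'
      · simp only [Fin.val_rev] at h'
        omega
      · rfl

theorem card_free_succ (m : ℕ) : Fintype.card (Free (m + 1)) = Fintype.card (Free m) + m := by
  rw [Fintype.card_congr (splitFree m), Fintype.card_sum, Fintype.card_fin]

theorem sum_Icc_eq_card_free : ∀ m : ℕ, ∑ k ∈ Icc 1 (m - 1), k = Fintype.card (Free m)
  | 0 => by simp
  | 1 => by rw [card_free_succ]; simp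
  | m + 2 => by
    rw [card_free_succ, ← sum_Icc_eq_card_free (m + 1), Nat.add_sub_cancel,
      show m + 2 - 1 = m + 1 from rfl, Finset.sum_Icc_succ_top (by omega)]

variable {F : Type u} [Field F] [Fintype F]

local notation "q" => Fintype.card F

/-- the coefficient of degree `k` in the entries -/
noncomputable def ce {R : Type*} [CommRing R] {m : ℕ} (k : ℕ) (M : Matrix (Fin m) (Fin m) R) : R :=
  M.charpoly.coeff (m - k)

/-- the homogenised polynomial of an equation on the coefficient of degree `k` -/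
noncomputable def eqPoly (m : ℕ) (a : Fin m → F) (f : ℕ → F) (k : ℕ) :
    MvPolynomial (Option (Free m)) F :=
  ce k (antiMat m (fun i => MvPolynomial.C (a i) * MvPolynomial.X none)
      (fun s => MvPolynomial.X (some s))) -
    MvPolynomial.C (f k) * MvPolynomial.X none ^ k

theorem antiMat_homogeneous (m : ℕ) (a : Fin m → F) (i j : Fin m) :
    (antiMat m (fun i => MvPolynomial.C (a i) * MvPolynomial.X none)
      (fun s => (MvPolynomial.X (some s) : MvPolynomial (Option (Free m)) F)) i j).IsHomogeneous 1 := by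
  simp only [antiMat, Matrix.of_apply]
  split_ifs
  · exact MvPolynomial.isHomogeneous_X _ _
  · exact MvPolynomial.isHomogeneous_C_mul_X _ _
  · exact MvPolynomial.isHomogeneous_zero _ _ _

theorem eqPoly_homogeneous (m : ℕ) (a : Fin m → F) (f : ℕ → F) {k : ℕ} (hk : k ≤ m) :
    (eqPoly m a f k).IsHomogeneous k := by
  refine MvPolynomial.IsHomogeneous.sub ?_ (MvPolynomial.isHomogeneous_C_mul_X_pow _ _ _)
  set A := antiMat m (fun i => MvPolynomial.C (a i) * MvPolynomial.X none)
      (fun s => (MvPolynomial.X (some s) : MvPolynomial (Option (Free m)) F)) with hA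
  have h := Matrix.charpoly.univ_coeff_eval₂Hom (Fin m)
    (MvPolynomial.C : F →+* MvPolynomial (Option (Free m)) F) (fun ij => A ij.1 ij.2) (m - k)
  rw [show Matrix.of (Function.curry fun ij : Fin m × Fin m => A ij.1 ij.2) = A from rfl] at h
  rw [ce, ← h]
  have := (Matrix.charpoly.univ_coeff_isHomogeneous F (Fin m) (m - k) k (by simp; omega)).eval₂
    (MvPolynomial.C : F →+* MvPolynomial (Option (Free m)) F) (fun ij => A ij.1 ij.2) (n := 1)
    (fun r => MvPolynomial.isHomogeneous_C _ r) (fun ij => antiMat_homogeneous m a ij.1 ij.2)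
  rwa [one_mul] at this

theorem eval_eqPoly (m : ℕ) (a : Fin m → F) (f : ℕ → F) (k : ℕ) (v : Option (Free m) → F) :
    MvPolynomial.eval v (eqPoly m a f k) =
      ce k (antiMat m (fun i => a i * v none) (fun s => v (some s))) - f k * v none ^ k := by
  simp only [eqPoly, ce, map_sub, map_mul, map_pow, MvPolynomial.eval_C, MvPolynomial.eval_X]
  rw [← Polynomial.coeff_map, ← Matrix.charpoly_map, antiMat_map]
  congr 4
  · funext i; simp
  · funext s; simp

/-- A homogeneous polynomial of degree at most the critical one, summed over all but one variable. -/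
theorem sum_homogeneous {σ : Type*} [Fintype σ] [DecidableEq σ] {H : MvPolynomial (Option σ) F}
    {D : ℕ} (hH : H.IsHomogeneous D) (hD : D ≤ (q - 1) * Fintype.card σ) (c : F) :
    (D < (q - 1) * Fintype.card σ →
      ∑ x : σ → F, MvPolynomial.eval (fun o => o.elim c x) H = 0) ∧
    ∑ x : σ → F, MvPolynomial.eval (fun o => o.elim c x) H =
      ∑ x : σ → F, MvPolynomial.eval (fun o => o.elim 0 x) H := by
  classical
  have key : ∀ d ∈ H.support, (D < (q - 1) * Fintype.card σ ∨ d none ≠ 0) →
      ∀ c : F, ∑ x : σ → F, ∏ o, (o.elim c x) ^ d o = 0 := by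
    intro d hd hlt c
    have hdeg : d none + ∑ i, d (some i) = D := by
      have h := hH.degree_eq_sum_deg_support hd
      rw [h, Finset.sum_subset (Finset.subset_univ d.support) (fun i _ hi => by simpa using hi),
        Fintype.sum_option]
    have hz : ∑ x : σ → F, ∏ i, x i ^ d (some i) = 0 := by
      let e : σ →₀ ℕ := Finsupp.equivFunOnFinite.symm fun i => d (some i)
      have hsum : (MvPolynomial.monomial e (1 : F)).totalDegree < (q - 1) * Fintype.card σ := by
        rw [MvPolynomial.totalDegree_monomial _ one_ne_zero, Finsupp.sum_fintype _ _ (fun _ => rfl)]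
        simp only [e, Finsupp.coe_equivFunOnFinite_symm]
        omega
      have h := MvPolynomial.sum_eval_eq_zero _ hsum
      simpa [MvPolynomial.eval_monomial, Finsupp.prod_fintype, e] using h
    simp only [Fintype.prod_option, Option.elim_none, Option.elim_some, ← Finset.mul_sum, hz,
      mul_zero]
  have hev : ∀ c : F, ∑ x : σ → F, MvPolynomial.eval (fun o => o.elim c x) H =
      ∑ d ∈ H.support, H.coeff d * ∑ x : σ → F, ∏ o, (o.elim c x) ^ d o := fun c => by
    simp only [MvPolynomial.eval_eq', Finset.mul_sum]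
    exact Finset.sum_comm
  refine ⟨fun hlt => ?_, ?_⟩
  · rw [hev]
    exact Finset.sum_eq_zero fun d hd => by rw [key d hd (Or.inl hlt) c, mul_zero]
  · rw [hev, hev]
    refine Finset.sum_congr rfl fun d hd => ?_
    by_cases h0 : d none = 0
    · congr 1
      refine Finset.sum_congr rfl fun x _ => ?_
      simp [Fintype.prod_option, h0]
    · rw [key d hd (Or.inr h0) c, key d hd (Or.inr h0) 0]

theorem prod_eqPoly_homogeneous (m : ℕ) (a : Fin m → F) (f : ℕ → F) (S : Finset ℕ)
    (hS : S ⊆ Icc 1 (m - 1)) :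
    (∏ k ∈ S, eqPoly m a f k ^ (q - 1)).IsHomogeneous ((q - 1) * ∑ k ∈ S, k) := by
  rw [Finset.mul_sum]
  refine MvPolynomial.IsHomogeneous.prod _ _ _ fun k hk => ?_
  rw [mul_comm]
  exact (eqPoly_homogeneous m a f (by have := Finset.mem_Icc.1 (hS hk); omega)).pow _

theorem sum_le_card_free {m : ℕ} {S : Finset ℕ} (hS : S ⊆ Icc 1 (m - 1)) :
    ∑ k ∈ S, k ≤ Fintype.card (Free m) :=
  (Finset.sum_le_sum_of_subset hS).trans (sum_Icc_eq_card_free m).le

theorem sum_prod_lower (m : ℕ) (a : Fin m → F) (f : ℕ → F) {S : Finset ℕ}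
    (hS : S ⊂ Icc 1 (m - 1)) :
    ∑ x : Free m → F, ∏ k ∈ S, (ce k (antiMat m a x) - f k) ^ (q - 1) = 0 := by
  have hlt : ∑ k ∈ S, k < Fintype.card (Free m) := by
    obtain ⟨k, hk, hkS⟩ := Finset.exists_of_ssubset hS
    rw [← sum_Icc_eq_card_free m]
    exact Finset.sum_lt_sum_of_subset hS.1 hk hkS (Finset.mem_Icc.1 hk).1 fun _ _ _ => Nat.zero_le _
  have hq : 0 < q - 1 := by have := Fintype.one_lt_card (α := F); omega
  have h := (sum_homogeneous (prod_eqPoly_homogeneous m a f S hS.1)
    (Nat.mul_le_mul_left _ hlt.le) 1).1 (Nat.mul_lt_mul_of_pos_left hlt hq)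
  simpa [map_prod, eval_eqPoly] using h

theorem sum_prod_top_eq (m : ℕ) (a : Fin m → F) (f : ℕ → F) :
    ∑ x : Free m → F, ∏ k ∈ Icc 1 (m - 1), (ce k (antiMat m a x) - f k) ^ (q - 1) =
      ∑ x : Free m → F, ∏ k ∈ Icc 1 (m - 1), (ce k (antiMat m (fun _ => 0) x)) ^ (q - 1) := by
  have h := (sum_homogeneous (prod_eqPoly_homogeneous m a f _ (Finset.Subset.refl _))
    (Nat.mul_le_mul_left _ (sum_le_card_free (Finset.Subset.refl _))) 1).2
  simp only [map_prod, map_pow, eval_eqPoly, Option.elim_none, Option.elim_some, mul_one, one_pow,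
    mul_zero] at h
  refine h.trans (Finset.sum_congr rfl fun x _ => Finset.prod_congr rfl fun k hk => ?_)
  rw [zero_pow (by have := Finset.mem_Icc.1 hk; omega), mul_zero, sub_zero]

theorem det_antiMat {R : Type*} [CommRing R] (m : ℕ) (a : Fin m → R) (x : Free m → R) :
    (antiMat m a x).det = ((Equiv.Perm.sign (Fin.revPerm : Equiv.Perm (Fin m)) : ℤ) : R) * ∏ i, a i := by
  have h1 : ((antiMat m a x).submatrix (Fin.revPerm : Equiv.Perm (Fin m)) id).IsLowerTriangular := by
    intro i j hij
    have : i < j := hij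
    simp only [antiMat, Matrix.submatrix_apply, id, Fin.revPerm_apply, Matrix.of_apply, Fin.val_rev]
    rw [dif_neg (by omega), if_neg (by omega)]
  have h2 := Matrix.det_permute (Fin.revPerm : Equiv.Perm (Fin m)) (antiMat m a x)
  rw [Matrix.det_of_isLowerTriangular _ h1] at h2
  have h3 : ∏ i, ((antiMat m a x).submatrix (Fin.revPerm : Equiv.Perm (Fin m)) id) i i = ∏ i, a i := by
    rw [← Equiv.prod_comp (Fin.revPerm : Equiv.Perm (Fin m)) a]
    refine Finset.prod_congr rfl fun i _ => ?_
    simp only [antiMat, Matrix.submatrix_apply, id, Fin.revPerm_apply, Matrix.of_apply, Fin.val_rev]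
    rw [dif_neg (by omega), if_pos (by omega)]
  rw [h3] at h2
  rw [h2, ← mul_assoc, ← Int.cast_mul, Int.units_coe_mul_self, Int.cast_one, one_mul]

theorem charpoly_antiMat_zero_succ {R : Type*} [CommRing R] (m : ℕ) (z : Fin m → R)
    (x : Free m → R) :
    (antiMat (m + 1) (fun _ => 0) ((Sum.elim x z) ∘ splitFree m)).charpoly =
      (antiMat m z x).charpoly * Polynomial.X := by
  have h : (antiMat (m + 1) (fun _ => (0 : R)) ((Sum.elim x z) ∘ splitFree m)) =
      Matrix.reindex finSumFinEquiv finSumFinEquiv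
        (Matrix.fromBlocks (antiMat m z x) 0 0 (0 : Matrix (Fin 1) (Fin 1) R)) := by
    ext i j
    obtain ⟨i, rfl⟩ := finSumFinEquiv.surjective i
    obtain ⟨j, rfl⟩ := finSumFinEquiv.surjective j
    rw [Matrix.reindex_apply, Matrix.submatrix_apply, Equiv.symm_apply_apply, Equiv.symm_apply_apply]
    rcases i with i | i <;> rcases j with j | j
    · simp only [Matrix.fromBlocks_apply₁₁, antiMat, Matrix.of_apply, finSumFinEquiv_apply_left,
        Fin.val_castAdd, Function.comp_apply, splitFree, Equiv.coe_fn_mk]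
      by_cases h1 : i.val + j.val + 1 < m + 1
      · rw [dif_pos h1]
        by_cases h2 : i.val + j.val + 1 < m
        · rw [dif_pos h2, dif_pos h2]; rfl
        · rw [dif_neg h2, dif_neg h2, if_pos (by omega)]; rfl
      · rw [dif_neg h1, dif_neg (by omega), if_neg (show ¬ i.val + j.val + 1 = m by omega)]
        simp
    all_goals
      simp only [Matrix.fromBlocks_apply₁₂, Matrix.fromBlocks_apply₂₁, Matrix.fromBlocks_apply₂₂,
        antiMat, Matrix.of_apply, finSumFinEquiv_apply_left, finSumFinEquiv_apply_right,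
        Fin.val_castAdd, Fin.val_natAdd, Matrix.zero_apply]
      rw [dif_neg (by omega)]
      simp
  rw [h, Matrix.charpoly_reindex, Matrix.charpoly_fromBlocks_zero₁₂]
  simp [Matrix.charpoly]

theorem ce_antiMat_zero_succ {R : Type*} [CommRing R] (m : ℕ) (z : Fin m → R) (x : Free m → R)
    {k : ℕ} (hk : k ≤ m) :
    ce k (antiMat (m + 1) (fun _ => 0) ((Sum.elim x z) ∘ splitFree m)) = ce k (antiMat m z x) := by
  rw [ce, ce, charpoly_antiMat_zero_succ, show m + 1 - k = (m - k) + 1 by omega,
    Polynomial.coeff_mul_X]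

theorem sum_pow_card_sub_one : ∑ c : F, c ^ (q - 1) = -1 := by
  classical
  rw [← Finset.sum_erase_add _ _ (Finset.mem_univ (0 : F)),
    zero_pow (by have := Fintype.one_lt_card (α := F); omega), add_zero,
    Finset.sum_congr rfl fun x hx => FiniteField.pow_card_sub_one_eq_one x (Finset.ne_of_mem_erase hx),
    Finset.sum_const, Finset.card_erase_of_mem (Finset.mem_univ _), Finset.card_univ, nsmul_eq_mul,
    mul_one, Nat.cast_sub Fintype.card_pos, FiniteField.cast_card_eq_zero, Nat.cast_one, zero_sub]

/-- The sum of the products of the `(q-1)`-st powers of the shifted coefficients. -/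
theorem sum_prod_ce : ∀ (m : ℕ) (a : Fin m → F) (f : ℕ → F),
    ∑ x : Free m → F, ∏ k ∈ Icc 1 (m - 1), (ce k (antiMat m a x) - f k) ^ (q - 1) =
      (-1 : F) ^ Fintype.card (Free m)
  | 0, a, f => by
    haveI : IsEmpty (Free 0) := ⟨fun s => s.1.1.elim0⟩
    simp
  | m + 1, a, f => by
    classical
    rw [sum_prod_top_eq, Nat.add_sub_cancel, card_free_succ, pow_add]
    rcases Nat.eq_zero_or_pos m with rfl | hm
    · haveI : IsEmpty (Free 0) := ⟨fun s => s.1.1.elim0⟩
      haveI : IsEmpty (Free (0 + 1)) := ⟨fun s => by have := s.2; omega⟩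
      simp
    have e : ∀ y : Free m ⊕ Fin m → F,
        ∏ k ∈ Icc 1 m, ce k (antiMat (m + 1) (fun _ => 0) (y ∘ splitFree m)) ^ (q - 1) =
        (∏ k ∈ Icc 1 (m - 1), (ce k (antiMat m (y ∘ Sum.inr) (y ∘ Sum.inl)) - (0 : ℕ → F) k) ^ (q - 1)) *
          ∏ i, y (Sum.inr i) ^ (q - 1) := by
      intro y
      have hy : y = Sum.elim (y ∘ Sum.inl) (y ∘ Sum.inr) := (Sum.elim_comp_inl_inr y).symm
      obtain ⟨m', rfl⟩ : ∃ m', m = m' + 1 := ⟨m - 1, by omega⟩
      rw [Finset.prod_Icc_succ_top (by omega), Nat.add_sub_cancel]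
      congr 1
      · refine Finset.prod_congr rfl fun k hk => ?_
        conv_lhs => rw [hy, ce_antiMat_zero_succ _ _ _ (by have := Finset.mem_Icc.1 hk; omega)]
        simp
      · conv_lhs => rw [hy, ce_antiMat_zero_succ _ _ _ le_rfl]
        rw [ce, Nat.sub_self]
        have hd := Matrix.det_eq_sign_charpoly_coeff (antiMat (m' + 1) (y ∘ Sum.inr) (y ∘ Sum.inl))
        rw [det_antiMat, Fintype.card_fin] at hd
        have hne : ((-1 : F) ^ (m' + 1)) ≠ 0 := pow_ne_zero _ (neg_ne_zero.2 one_ne_zero)
        rw [Finset.prod_pow]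
        have hsq : ∀ c : F, c = 1 ∨ c = -1 → c ^ (q - 1) = 1 := fun c hc =>
          FiniteField.pow_card_sub_one_eq_one c (by rcases hc with rfl | rfl <;> simp)
        have hpow := congrArg (fun c : F => c ^ (q - 1)) hd
        simp only [mul_pow] at hpow
        rw [hsq _ (by
            rcases Int.units_eq_one_or (Equiv.Perm.sign (Fin.revPerm : Equiv.Perm (Fin (m' + 1))))
              with h | h <;> simp [h]), one_mul, hsq _ (neg_one_pow_eq_or F _), one_mul] at hpow
        simpa using hpow.symm
    rw [← Fintype.sum_equiv ((splitFree m).symm.arrowCongr (Equiv.refl F)) _ _ (fun y => rfl)]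
    refine (Finset.sum_congr rfl fun y _ => e y).trans ?_
    rw [← Fintype.sum_equiv (Equiv.sumArrowEquivProdArrow (Free m) (Fin m) F).symm _ _ (fun y => rfl),
      Fintype.sum_prod_type_right]
    simp only [Equiv.sumArrowEquivProdArrow_symm_apply_inl, Equiv.sumArrowEquivProdArrow_symm_apply_inr,
      Function.comp_def, ← Finset.sum_mul]
    rw [Finset.sum_congr rfl fun z _ => by rw [sum_prod_ce m _ _], ← Finset.mul_sum,
      ← Fintype.sum_pow (fun c : F => c ^ (q - 1)) m, sum_pow_card_sub_one]

/-- The number of matrices with given antidiagonal and given coefficients. -/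
theorem card_ce_eq (m : ℕ) (a : Fin m → F) (f : ℕ → F) :
    (Nat.card {x : Free m → F // ∀ k ∈ Icc 1 (m - 1), ce k (antiMat m a x) = f k} : F) =
      (-1 : F) ^ (Fintype.card (Free m) + (m - 1)) := by
  classical
  rw [Nat.card_eq_fintype_card, Fintype.card_subtype, Finset.natCast_card_filter]
  have hq : q - 1 ≠ 0 := by have := Fintype.one_lt_card (α := F); omega
  have e : ∀ x : Free m → F, (if ∀ k ∈ Icc 1 (m - 1), ce k (antiMat m a x) = f k then (1 : F) else 0) =
      ∑ S ∈ (Icc 1 (m - 1)).powerset,
        (-1 : F) ^ S.card * ∏ k ∈ S, (ce k (antiMat m a x) - f k) ^ (q - 1) := by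
    intro x
    rw [show (∑ S ∈ (Icc 1 (m - 1)).powerset,
        (-1 : F) ^ S.card * ∏ k ∈ S, (ce k (antiMat m a x) - f k) ^ (q - 1)) =
        ∏ k ∈ Icc 1 (m - 1), (1 + -(ce k (antiMat m a x) - f k) ^ (q - 1)) by
      rw [Finset.prod_one_add]; simp only [Finset.prod_neg]]
    split_ifs with h
    · exact (Finset.prod_eq_one fun k hk => by rw [h k hk, sub_self, zero_pow hq, neg_zero, add_zero]).symm
    · push Not at h
      obtain ⟨k, hk, hne⟩ := h
      refine (Finset.prod_eq_zero hk ?_).symm
      rw [FiniteField.pow_card_sub_one_eq_one _ (sub_ne_zero.2 hne), add_neg_cancel]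
  refine (Finset.sum_congr rfl fun x _ => (Eq.trans (by congr) (e x))).trans ?_
  rw [Finset.sum_comm, Finset.sum_eq_single (Icc 1 (m - 1))]
  · rw [← Finset.mul_sum, sum_prod_ce, Nat.card_Icc, pow_add, mul_comm]
    congr 2
  · intro S hS hne
    rw [← Finset.mul_sum, sum_prod_lower m a f ((Finset.mem_powerset.1 hS).ssubset_of_ne hne), mul_zero]
  · simp

end Cfsg.Agent.SLBlocks
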