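import Cfsg.Agent.Lib.SLBlocks.DefectGroups
import Cfsg.Agent.Lib.SLBlocks.TopSum
import Cfsg.Agent.Lib.Classical.SemisimpleClasses
import Cfsg.Agent.Lib.Blocks.RobinsonRank
import Mathlib.FieldTheory.Finite.Extension
import Mathlib.RingTheory.Norm.Basic

/-!
# The special linear group has exactly one block of defect zero in its own characteristic
-/

set_option autoImplicit false
set_option linter.unusedSectionVars false
set_option linter.style.haveILetI false

namespace Cfsg.Agent.SLBlocks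

open Matrix Cfsg Cfsg.Agent.Blocks Cfsg.Agent.Blocks.Robinson Finset

universe u

variable {n : ℕ} {F : Type u} [Field F] [Fintype F] (p : ℕ) [Fact p.Prime] [CharP F p]

/-- the antidiagonals of determinant one -/
abbrev AD (n : ℕ) (F : Type u) [Field F] : Type u :=
  {a : Fin n → F // ((Equiv.Perm.sign (Fin.revPerm : Equiv.Perm (Fin n)) : ℤ) : F) * ∏ i, a i = 1}

/-- the element with given antidiagonal and given entries above it -/
def el (a : AD n F) (x : Free n → F) : SpecialLinearGroup (Fin n) F :=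
  ⟨antiMat n a.1 x, by rw [det_antiMat]; exact a.2⟩

theorem AD.ne_zero (a : AD n F) (i : Fin n) : a.1 i ≠ 0 := by
  intro h
  have h2 := a.2
  rw [Finset.prod_eq_zero (Finset.mem_univ i) h, mul_zero] at h2
  exact zero_ne_one h2

theorem mul_el_zero_apply (M : Matrix (Fin n) (Fin n) F) (a : AD n F) (i j : Fin n) :
    (M * (el a 0).1) i j = M i j.rev * a.1 j.rev := by
  rw [Matrix.mul_apply, Finset.sum_eq_single j.rev]
  · simp only [el, antiMat, Matrix.of_apply, Fin.val_rev]
    rw [dif_neg (by omega), if_pos (by omega)]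
  · intro l _ hl
    simp only [el, antiMat, Matrix.of_apply]
    split_ifs with h1 h2
    · simp
    · exact absurd (Fin.ext (by simp [Fin.val_rev]; omega)) hl
    · simp
  · simp

theorem el_zero_mul_apply (M : Matrix (Fin n) (Fin n) F) (a : AD n F) (i j : Fin n) :
    ((el a 0).1 * M) i j = a.1 i * M i.rev j := by
  rw [Matrix.mul_apply, Finset.sum_eq_single i.rev]
  · simp only [el, antiMat, Matrix.of_apply, Fin.val_rev]
    rw [dif_neg (by omega), if_pos (by omega)]
  · intro l _ hl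
    simp only [el, antiMat, Matrix.of_apply]
    split_ifs with h1 h2
    · simp
    · exact absurd (Fin.ext (by simp [Fin.val_rev]; omega)) hl
    · simp
  · simp

/-- the cell `U * el a 0` consists of the elements `el a x` -/
theorem mem_cell_iff (a : AD n F) (z : SpecialLinearGroup (Fin n) F) :
    z * (el a 0)⁻¹ ∈ uniU n F ↔ ∃ x, z = el a x := by
  constructor
  · intro hu
    obtain ⟨w, hw, rfl⟩ : ∃ w ∈ uniU n F, z = w * el a 0 := ⟨_, hu, by group⟩
    refine ⟨fun s => w.1 s.1.1 s.1.2.rev * a.1 s.1.2.rev, Subtype.ext (Matrix.ext fun i j => ?_)⟩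
    show (w.1 * (el a 0).1) i j = _
    rw [mul_el_zero_apply]
    simp only [el, antiMat, Matrix.of_apply]
    split_ifs with h1 h2
    · rfl
    · rw [show j.rev = i from Fin.ext (by simp [Fin.val_rev]; omega), hw.2, one_mul]
    · rw [show w.1 i j.rev = 0 from hw.1 (show j.rev < i by
        rw [Fin.lt_def, Fin.val_rev]; omega), zero_mul]
  · rintro ⟨x, rfl⟩
    let W : Matrix (Fin n) (Fin n) F := Matrix.of fun i l =>
      if l = i then 1 else if h : i < l then
        x ⟨(i, l.rev), by rw [Fin.lt_def] at h; simp [Fin.val_rev]; omega⟩ / a.1 l else 0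
    have hW : IsUni W := ⟨fun i l (h : l < i) => by
      simp only [W, Matrix.of_apply]
      rw [if_neg (ne_of_lt h), dif_neg (lt_asymm h)], fun i => by simp [W]⟩
    let w : SpecialLinearGroup (Fin n) F := ⟨W, by
      rw [Matrix.det_of_isUpperTriangular hW.1]; simp [hW.2]⟩
    have e : el a x = w * el a 0 := by
      refine Subtype.ext (Matrix.ext fun i j => ?_)
      show _ = (W * (el a 0).1) i j
      rw [mul_el_zero_apply]
      simp only [el, antiMat, Matrix.of_apply, W]
      split_ifs with h1 h2 h3 h4 h5 h6 h7 h8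
      all_goals first
        | (rw [div_mul_cancel₀ _ (AD.ne_zero a _)]; congr; simp [Fin.rev_rev]; done)
        | exact (zero_mul _).symm
        | (exfalso; simp only [Fin.ext_iff, Fin.lt_def, Fin.val_rev] at *; omega)
        | (rw [one_mul]; exact congrArg a.1 (Fin.ext (by simp only [Fin.ext_iff, Fin.val_rev] at *; omega)))
    rw [e, mul_inv_cancel_right]
    exact hW

theorem el_mul_eq {a a' : AD n F} {x x' : Free n → F} {w : SpecialLinearGroup (Fin n) F}
    (hw : w ∈ uniU n F) (h : el a x * w = el a' x') : w = 1 ∧ a = a' ∧ x = x' := by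
  obtain ⟨u, hu, hu'⟩ : ∃ u ∈ uniU n F, el a 0 * w = u * el a' 0 := by
    refine ⟨(el a x * (el a 0)⁻¹)⁻¹ * (el a' x' * (el a' 0)⁻¹),
      mul_mem (inv_mem ((mem_cell_iff a _).2 ⟨x, rfl⟩)) ((mem_cell_iff a' _).2 ⟨x', rfl⟩), ?_⟩
    rw [← h]
    group
  have he : ∀ i j, a.1 i * w.1 i.rev j = u.1 i j.rev * a'.1 j.rev := fun i j => by
    rw [← el_zero_mul_apply, ← mul_el_zero_apply]
    exact congrFun (congrFun (congrArg Subtype.val hu') i) j
  have hw1 : w = 1 := by
    refine Subtype.ext (Matrix.ext fun k j => ?_)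
    show w.1 k j = (1 : Matrix (Fin n) (Fin n) F) k j
    rcases lt_trichotomy k j with h1 | rfl | h1
    · rw [Matrix.one_apply_ne (ne_of_lt h1)]
      have h2 := he k.rev j
      rw [Fin.rev_rev, show u.1 k.rev j.rev = 0 from hu.1 (show j.rev < k.rev from Fin.rev_lt_rev.2 h1),
        zero_mul] at h2
      exact (mul_eq_zero.1 h2).resolve_left (AD.ne_zero a _)
    · rw [hw.2, Matrix.one_apply_eq]
    · rw [show w.1 k j = 0 from hw.1 h1, Matrix.one_apply_ne (ne_of_gt h1)]
  have ha : a = a' := by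
    refine Subtype.ext (funext fun i => ?_)
    have h2 := he i i.rev
    rwa [hw.2, Fin.rev_rev, hu.2, mul_one, one_mul] at h2
  subst ha
  rw [hw1, mul_one] at h
  refine ⟨hw1, rfl, funext fun s => ?_⟩
  have h2 := congrFun (congrFun (congrArg Subtype.val h) s.1.1) s.1.2
  simp only [el, antiMat, Matrix.of_apply, dif_pos s.2] at h2
  exact h2

/-- the number of elements of a cell with the characteristic polynomial of a class of `p'`-centralizer -/
theorem card_cell_class (hn : 1 ≤ n) {k : SpecialLinearGroup (Fin n) F} (hk : ¬ p ∣ orderOf k)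
    (hkc : ¬ p ∣ Nat.card (Subgroup.centralizer ({k} : Set (SpecialLinearGroup (Fin n) F))))
    (a : AD n F) :
    (Nat.card {x : Free n → F // IsConj k (el a x)} : F) =
      (-1 : F) ^ (Fintype.card (Free n) + (n - 1)) := by
  haveI : Fintype (SpecialLinearGroup (Fin n) F) := Fintype.ofFinite _
  rw [← card_ce_eq n a.1 (fun m => ce m k.1)]
  congr 1
  refine Nat.card_congr (Equiv.subtypeEquivRight fun x => ?_)
  constructor
  · intro h m _
    obtain ⟨c, hc⟩ := isConj_iff.1 h
    have : (el a x).1.charpoly = k.1.charpoly := by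
      rw [← hc]
      show (c.1 * k.1 * (c⁻¹).1).charpoly = k.1.charpoly
      have e : (c⁻¹).1 = (((SpecialLinearGroup.toGL c)⁻¹ : GL (Fin n) F) : Matrix (Fin n) (Fin n) F) := by
        rw [← map_inv]; rfl
      rw [e, Matrix.coe_units_inv]
      exact Matrix.charpoly_units_conj (SpecialLinearGroup.toGL c) k.1
    exact congrArg (fun f : Polynomial F => f.coeff (n - m)) this
  · intro h
    set y := el a x with hy
    have hc : y.1.charpoly = k.1.charpoly := by
      refine Polynomial.ext fun i => ?_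
      rcases lt_trichotomy i n with hi | rfl | hi
      · rcases Nat.eq_zero_or_pos i with rfl | hi0
        · have h1 := Matrix.det_eq_sign_charpoly_coeff y.1
          have h2 := Matrix.det_eq_sign_charpoly_coeff k.1
          have hy1 : y.1.det = 1 := y.2
          have hk1 : k.1.det = 1 := k.2
          rw [hy1] at h1
          rw [hk1] at h2
          exact mul_left_cancel₀ (pow_ne_zero _ (neg_ne_zero.2 one_ne_zero)) (h1.symm.trans h2)
        · have h1 : ce (n - i) y.1 = ce (n - i) k.1 := h (n - i) (Finset.mem_Icc.2 ⟨by omega, by omega⟩)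
          rwa [ce, ce, show n - (n - i) = i by omega] at h1
      · have h1 := y.1.charpoly_monic.leadingCoeff
        have h2 := k.1.charpoly_monic.leadingCoeff
        rw [Polynomial.leadingCoeff, Matrix.charpoly_natDegree_eq_dim, Fintype.card_fin] at h1 h2
        rw [h1, h2]
      · rw [Polynomial.coeff_eq_zero_of_natDegree_lt, Polynomial.coeff_eq_zero_of_natDegree_lt] <;>
          rwa [Matrix.charpoly_natDegree_eq_dim, Fintype.card_fin]
    obtain ⟨j, hj⟩ := SemisimpleCl.exists_coprime_pow (F := F) p y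
    have hkcop : (orderOf k).Coprime p := Nat.coprime_comm.1
      ((Fact.out : p.Prime).coprime_iff_not_dvd.2 hk)
    have hc' : (y ^ Fintype.card F ^ j).1.charpoly = k.1.charpoly := by
      rw [← hc]; exact SemisimpleCl.charpoly_pow_card_pow y.1 j
    obtain ⟨c, hcy⟩ := isConj_iff.1 (SemisimpleCl.isConj_sl p hkcop hj hc'.symm)
    set m := orderOf (y ^ Fintype.card F ^ j) with hm
    have hreg : ¬ p ∣ orderOf y := by
      intro hp
      have h1 : y ^ m ∈ Subgroup.centralizer ({y ^ Fintype.card F ^ j} : Set _) :=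
        Subgroup.mem_centralizer_singleton_iff.2 (Commute.pow_pow_self y _ _).eq
      have h2 : ∃ s, orderOf (y ^ m) ∣ p ^ s := by
        obtain ⟨e, -, hF⟩ := FiniteField.card F p
        refine ⟨(e : ℕ) * j, orderOf_dvd_of_pow_eq_one ?_⟩
        rw [← pow_mul, pow_mul p, ← hF, mul_comm, pow_mul, hm, pow_orderOf_eq_one]
      have h3 : ¬ p ∣ Nat.card (Subgroup.centralizer ({y ^ Fintype.card F ^ j} :
          Set (SpecialLinearGroup (Fin n) F))) := by
        rw [← hcy, card_centralizer_conj k c]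
        exact hkc
      have h4 : orderOf (y ^ m) = 1 := by
        obtain ⟨s, hs⟩ := h2
        obtain ⟨t, -, ht⟩ := (Nat.dvd_prime_pow (Fact.out : p.Prime)).1 hs
        rcases Nat.eq_zero_or_pos t with rfl | ht0
        · rw [ht, pow_zero]
        · refine absurd ?_ h3
          refine dvd_trans ?_ (orderOf_dvd_natCard (⟨y ^ m, h1⟩ : Subgroup.centralizer _))
          rw [Subgroup.orderOf_mk, ht]
          exact dvd_pow_self p ht0.ne'
      have h5 : orderOf y ∣ m := orderOf_dvd_of_pow_eq_one (orderOf_eq_one_iff.1 h4)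
      exact (Fact.out : p.Prime).not_dvd_one (hj ▸ Nat.dvd_gcd (hp.trans h5) dvd_rfl)
    exact SemisimpleCl.isConj_sl p hkcop
      (Nat.coprime_comm.1 ((Fact.out : p.Prime).coprime_iff_not_dvd.2 hreg)) hc.symm

include p in
/-- the number of antidiagonals of determinant one is prime to `p` -/
theorem card_AD_ne_zero (hn : 1 ≤ n) : (Nat.card (AD n F) : F) ≠ 0 := by
  set s : F := ((Equiv.Perm.sign (Fin.revPerm : Equiv.Perm (Fin n)) : ℤ) : F) with hs
  have hs0 : s ≠ 0 := by
    rcases Int.units_eq_one_or (Equiv.Perm.sign (Fin.revPerm : Equiv.Perm (Fin n))) with h | h <;>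
      simp [hs, h]
  let φ : (Fin n → Fˣ) →* Fˣ :=
    { toFun := fun a => ∏ i, a i
      map_one' := by simp
      map_mul' := fun a b => Finset.prod_mul_distrib }
  let a₀ : Fin n → Fˣ := fun i => if i = ⟨0, hn⟩ then (Units.mk0 s hs0)⁻¹ else 1
  have ha₀ : φ a₀ = (Units.mk0 s hs0)⁻¹ := by simp [φ, a₀]
  let e : φ.ker → AD n F := fun k => ⟨fun i => ((k.1 i * a₀ i : Fˣ) : F), by
    rw [← hs, ← Units.coe_prod, show ∏ i, k.1 i * a₀ i = φ (k.1 * a₀) from rfl, map_mul, k.2, one_mul,
      ha₀, Units.val_inv_eq_inv_val, Units.val_mk0, mul_inv_cancel₀ hs0]⟩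
  have hbij : Function.Bijective e := by
    refine ⟨fun k k' h => Subtype.ext (funext fun i => ?_), fun a => ?_⟩
    · exact mul_right_cancel (Units.ext (congrFun (congrArg Subtype.val h) i))
    · let b : Fin n → Fˣ := fun i => Units.mk0 (a.1 i) (AD.ne_zero a i)
      refine ⟨⟨b * a₀⁻¹, ?_⟩, Subtype.ext (funext fun i => ?_)⟩
      · rw [MonoidHom.mem_ker, map_mul, map_inv, ha₀, inv_inv]
        refine Units.ext ?_
        rw [Units.val_mul, Units.val_mk0]
        show ((∏ i, b i : Fˣ) : F) * s = 1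
        rw [Units.coe_prod, mul_comm]
        exact a.2
      · simp [e, b]
  rw [← Nat.card_eq_of_bijective e hbij, Ne, CharP.cast_eq_zero_iff F p]
  intro h
  have h1 := h.trans (Subgroup.card_subgroup_dvd_card φ.ker)
  rw [Nat.card_pi, Finset.prod_const, Finset.card_univ] at h1
  exact (Fact.out : p.Prime).not_dvd_one
    ((coprime_units (F := F) p) ▸ Nat.dvd_gcd ((Fact.out : p.Prime).dvd_of_dvd_pow h1) dvd_rfl)

/-- an element with a centralizer of order prime to `p` -/
theorem exists_regular (hn : 1 ≤ n) :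
    ∃ x : SpecialLinearGroup (Fin n) F, ¬ p ∣ orderOf x ∧
      ¬ p ∣ Nat.card (Subgroup.centralizer ({x} : Set (SpecialLinearGroup (Fin n) F))) := by
  haveI : NeZero n := ⟨by omega⟩
  classical
  let K := FiniteField.Extension F p n
  haveI : Finite K := Module.finite_of_finite F
  haveI : Fintype K := Fintype.ofFinite K
  set q := Fintype.card F with hq
  have hq1 : 2 ≤ q := Fintype.one_lt_card
  have hK : Nat.card Kˣ = q ^ n - 1 := by
    rw [Nat.card_units, FiniteField.natCard_extension, Nat.card_eq_fintype_card]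
  obtain ⟨g, hg⟩ := IsCyclic.exists_generator (α := Kˣ)
  have hog : orderOf g = q ^ n - 1 := by rw [orderOf_eq_card_of_forall_mem_zpowers hg, hK]
  set ζ : Kˣ := g ^ (q - 1) with hζ
  have hnorm : Algebra.norm F (ζ : K) = 1 := by
    rw [hζ, Units.val_pow_eq_pow_val, map_pow]
    exact FiniteField.pow_card_sub_one_eq_one _ (Algebra.norm_ne_zero_iff.2 g.ne_zero)
  have hadj : ∀ z : K, z ∈ Algebra.adjoin F ({(ζ : K)} : Set K) := by
    set S := Algebra.adjoin F ({(ζ : K)} : Set K) with hS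
    haveI : IsDomain S := inferInstance
    haveI : Fintype S := Fintype.ofFinite S
    letI : Field S := (Finite.isField_of_domain S).toField
    have hd : Nat.card S = q ^ Module.finrank F S := by
      rw [Module.natCard_eq_pow_finrank (K := F), Nat.card_eq_fintype_card]
    set d := Module.finrank F S with hd'
    have hζS : (⟨(ζ : K), Algebra.self_mem_adjoin_singleton F _⟩ : S) ^ (q ^ d - 1) = 1 := by
      rw [← hd, Nat.card_eq_fintype_card]
      exact FiniteField.pow_card_sub_one_eq_one _ fun h => ζ.ne_zero (congrArg Subtype.val h)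
    have hdvd : q ^ n - 1 ∣ (q - 1) * (q ^ d - 1) := by
      rw [← hog, orderOf_dvd_iff_pow_eq_one, pow_mul, ← hζ]
      exact Units.ext (by simpa using congrArg Subtype.val hζS)
    have hdn : d = n := by
      have hle : d ≤ n := by
        rw [← FiniteField.finrank_extension F p n]
        exact Submodule.finrank_le (Subalgebra.toSubmodule S)
      by_contra hne
      have hd0 : 0 < d := Module.finrank_pos
      have h1 := Nat.le_of_dvd (Nat.mul_pos (by omega) (by
        have := Nat.one_lt_pow hd0.ne' (show 1 < q by omega); omega)) hdvd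
      have h2 : q ^ d * q ≤ q ^ n := by rw [← pow_succ]; exact Nat.pow_le_pow_right (by omega) (by omega)
      have h3 : 1 ≤ q ^ d := Nat.one_le_pow _ _ (by omega)
      obtain ⟨r, hr⟩ : ∃ r, q ^ d = r + 1 := ⟨q ^ d - 1, by omega⟩
      obtain ⟨s, hs⟩ : ∃ s, q = s + 2 := ⟨q - 2, by omega⟩
      rw [hr] at h2 h1
      rw [hs] at h2 h1
      simp only [Nat.add_sub_cancel, show s + 2 - 1 = s + 1 by omega] at h1
      nlinarith [Nat.sub_add_cancel (show 1 ≤ (s + 2) ^ n from Nat.one_le_pow _ _ (by omega))]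
    have htop : Subalgebra.toSubmodule S = ⊤ := by
      refine Submodule.eq_top_of_finrank_eq ?_
      rw [FiniteField.finrank_extension]
      exact hdn
    intro z
    rw [← Subalgebra.mem_toSubmodule, htop]
    trivial
  let b : Module.Basis (Fin n) F K := (Module.finBasisOfFinrankEq F K (FiniteField.finrank_extension F p n))
  have hdet : (Algebra.leftMulMatrix b (ζ : K)).det = 1 := by
    rw [← Algebra.norm_eq_matrix_det, hnorm]
  let x : SpecialLinearGroup (Fin n) F := ⟨Algebra.leftMulMatrix b (ζ : K), hdet⟩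
  set C := Subgroup.centralizer ({x} : Set (SpecialLinearGroup (Fin n) F)) with hC
  have hmul : ∀ c : C, ∀ v w : K,
      Matrix.toLin b b c.1.1 (v * w) = v * Matrix.toLin b b c.1.1 w := by
    intro c v
    refine Algebra.adjoin_induction (fun z hz => ?_) (fun r => ?_) (fun a a' _ _ ha ha' => ?_)
      (fun a a' _ _ ha ha' => ?_) (hadj v)
    · intro w
      obtain rfl := hz
      have h1 := congrArg (fun g : SpecialLinearGroup (Fin n) F => g.1)
        (Subgroup.mem_centralizer_singleton_iff.1 c.2)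
      change c.1.1 * x.1 = x.1 * c.1.1 at h1
      have h2 := congrArg (fun T => Matrix.toLin b b T w) h1
      simp only [Matrix.toLin_mul b b b, LinearMap.comp_apply, x, Algebra.toMatrix_lmul_eq] at h2
      simpa [Algebra.leftMulMatrix_apply, Matrix.toLin_toMatrix] using h2
    · intro w
      rw [← Algebra.smul_def, ← Algebra.smul_def, map_smul]
    · intro w; rw [add_mul, map_add, ha, ha', add_mul]
    · intro w; rw [mul_assoc, ha, ha', mul_assoc]
  let ψ : C →* K :=
    { toFun := fun c => Matrix.toLin b b c.1.1 1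
      map_one' := by simp
      map_mul' := fun c c' => by
        show Matrix.toLin b b (c.1.1 * c'.1.1) 1 = _
        rw [Matrix.toLin_mul b b b, LinearMap.comp_apply,
          show Matrix.toLin b b c'.1.1 1 = Matrix.toLin b b c'.1.1 1 * 1 from (mul_one _).symm, hmul,
          mul_comm, mul_one] }
  have hinj : Function.Injective ψ.toHomUnits := by
    intro c c' h
    have h1 : ψ c = ψ c' := by simpa using congrArg Units.val h
    refine Subtype.ext (Subtype.ext ((Matrix.toLin b b).injective (LinearMap.ext fun w => ?_)))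
    have := hmul c w 1
    have := hmul c' w 1
    simp only [mul_one] at *
    simp_all [ψ]
  have hdvd : Nat.card C ∣ q ^ n - 1 := hK ▸ Subgroup.card_dvd_of_injective _ hinj
  have hpC : ¬ p ∣ Nat.card C := by
    intro h
    obtain ⟨e, hp, hF⟩ := FiniteField.card F p
    have h1 : p ∣ q ^ n := by
      rw [hq, hF, ← pow_mul]; exact dvd_pow_self p (Nat.mul_ne_zero e.2.ne' (by omega))
    have h2 := Nat.dvd_sub h1 (h.trans hdvd)
    rw [Nat.sub_sub_self (Nat.one_le_pow _ _ (by omega))] at h2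
    exact hp.not_dvd_one h2
  refine ⟨x, fun h => hpC (h.trans ?_), hpC⟩
  rw [← Subgroup.orderOf_mk (H := C) x (Subgroup.mem_centralizer_singleton_iff.2 rfl)]
  exact orderOf_dvd_natCard _

/-- an element whose intersection is trivial lies in the cell of the long element -/
theorem exists_long_form {y : SpecialLinearGroup (Fin n) F} {A B : GL (Fin n) F}
    (hA : A ∈ Cfsg.upperTriangularGL n F) (hB : B ∈ Cfsg.upperTriangularGL n F)
    (hg : SpecialLinearGroup.toGL y⁻¹ = A * Unipotent.permGL n F Fin.revPerm * B) :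
    ∃ u₁ ∈ uniU n F, ∃ a : AD n F, ∃ u₂ ∈ uniU n F, y = u₁ * el a 0 * u₂ := by
  classical
  set P := Unipotent.permGL n F (Fin.revPerm : Equiv.Perm (Fin n)) with hP
  have hPinv : P⁻¹ = P := by
    rw [hP, ← map_inv]
    rfl
  have hy : SpecialLinearGroup.toGL y = B⁻¹ * P * A⁻¹ := by
    have := congrArg Inv.inv hg
    rw [← map_inv, inv_inv, _root_.mul_inv_rev, _root_.mul_inv_rev, hPinv, ← mul_assoc] at this
    exact this
  set B' := B⁻¹ with hB'
  set A' := A⁻¹ with hA'
  have hB'm : B' ∈ Cfsg.upperTriangularGL n F := inv_mem hB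
  have hA'm : A' ∈ Cfsg.upperTriangularGL n F := inv_mem hA
  -- split off the diagonals
  let d : Fin n → F := fun i => B'.1 i i
  let e : Fin n → F := fun i => A'.1 i i
  have hd : ∀ i, d i ≠ 0 := upper_diag_ne_zero hB'm
  have he : ∀ i, e i ≠ 0 := upper_diag_ne_zero hA'm
  let W₁ : Matrix (Fin n) (Fin n) F := Matrix.of fun i j => B'.1 i j / d j
  let W₂ : Matrix (Fin n) (Fin n) F := Matrix.of fun i j => A'.1 i j / e i
  have hW₁ : IsUni W₁ := ⟨fun i j h => by simp [W₁, show B'.1 i j = 0 from hB'm h],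
    fun i => by simp [W₁, d, hd i]⟩
  have hW₂ : IsUni W₂ := ⟨fun i j h => by simp [W₂, show A'.1 i j = 0 from hA'm h],
    fun i => by simp [W₂, e, he i]⟩
  let w₁ : SpecialLinearGroup (Fin n) F := ⟨W₁, by
    rw [Matrix.det_of_isUpperTriangular hW₁.1]; simp [hW₁.2]⟩
  let w₂ : SpecialLinearGroup (Fin n) F := ⟨W₂, by
    rw [Matrix.det_of_isUpperTriangular hW₂.1]; simp [hW₂.2]⟩
  let a : Fin n → F := fun i => d i * e i.rev
  have heq : y.1 = W₁ * antiMat n a 0 * W₂ := by
    rw [show y.1 = B'.1 * P.1 * A'.1 from congrArg Units.val hy]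
    ext i j
    rw [Matrix.mul_apply, Matrix.mul_apply]
    refine Finset.sum_congr rfl fun l _ => ?_
    rw [Matrix.mul_apply, Matrix.mul_apply, Finset.sum_eq_single l.rev, Finset.sum_eq_single l.rev]
    · simp only [hP, Unipotent.permGL_apply, Fin.revPerm_apply, W₁, W₂, a, antiMat, Matrix.of_apply,
        Fin.val_rev, Fin.rev_rev, if_true]
      rw [dif_neg (by omega), if_pos (by omega)]
      have h1 := hd l.rev
      have h2 := he l
      field_simp
    · intro m _ hm
      simp only [antiMat, Matrix.of_apply]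
      split_ifs with h1 h2
      · simp
      · exact absurd (Fin.ext (by simp [Fin.val_rev]; omega)) hm
      · simp
    · simp
    · intro m _ hm
      rw [hP, Unipotent.permGL_apply, Fin.revPerm_apply, if_neg hm, mul_zero]
    · simp
  have hdet : ((Equiv.Perm.sign (Fin.revPerm : Equiv.Perm (Fin n)) : ℤ) : F) * ∏ i, a i = 1 := by
    have h := congrArg Matrix.det heq
    rw [y.2, det_mul, det_mul, det_antiMat, show W₁.det = 1 from w₁.2, show W₂.det = 1 from w₂.2,
      one_mul, mul_one] at h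
    exact h.symm
  exact ⟨w₁, hW₁, ⟨a, hdet⟩, w₂, hW₂, Subtype.ext heq⟩

open scoped Classical in
/-- the number of pairs divided by the Sylow order, modulo `p` -/
theorem card_pairs_cast (hn : 1 ≤ n) {k l : SpecialLinearGroup (Fin n) F}
    (hk : ¬ p ∣ orderOf k) (hkc : ¬ p ∣ Nat.card (Subgroup.centralizer ({k} : Set (SpecialLinearGroup (Fin n) F))))
    (hl : ¬ p ∣ orderOf l) (hlc : ¬ p ∣ Nat.card (Subgroup.centralizer ({l} : Set (SpecialLinearGroup (Fin n) F)))) :
    ((Nat.card {yz : SpecialLinearGroup (Fin n) F × SpecialLinearGroup (Fin n) F //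
        IsConj k yz.1 ∧ IsConj l yz.2 ∧ yz.2 * yz.1⁻¹ ∈ uniU n F} / Nat.card (uniU n F) : ℕ) : F) =
      Nat.card (AD n F) := by
  haveI : Fintype (SpecialLinearGroup (Fin n) F) := Fintype.ofFinite _
  set U := uniU n F with hU
  let X := {y : (SpecialLinearGroup (Fin n) F) // IsConj k y}
  let β : (SpecialLinearGroup (Fin n) F) → ℕ := fun y => Nat.card {z : (SpecialLinearGroup (Fin n) F) // IsConj l z ∧ z * y⁻¹ ∈ U}
  -- a p-element commuting with a conjugate of k or l is trivial
  have hfree : ∀ {m : (SpecialLinearGroup (Fin n) F)}, ¬ p ∣ Nat.card (Subgroup.centralizer ({m} : Set (SpecialLinearGroup (Fin n) F))) → ∀ y, IsConj m y →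
      ∀ u ∈ U, u * y * u⁻¹ = y → u = 1 := by
    intro m hm y hy u hu he
    obtain ⟨c, rfl⟩ := isConj_iff.1 hy
    obtain ⟨e, he'⟩ := isPGroup_uniU p (⟨u, hu⟩ : U)
    have h0 : u ^ p ^ e = 1 := congrArg Subtype.val he'
    by_contra hne
    obtain ⟨t, -, ht⟩ := (Nat.dvd_prime_pow (Fact.out : p.Prime)).1 (orderOf_dvd_of_pow_eq_one h0)
    have ht0 : t ≠ 0 := by
      rintro rfl
      exact hne (orderOf_eq_one_iff.1 (by rw [ht, pow_zero]))
    refine hm ?_
    rw [← card_centralizer_conj m c]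
    have hu' : u ∈ Subgroup.centralizer ({c * m * c⁻¹} : Set (SpecialLinearGroup (Fin n) F)) :=
      Subgroup.mem_centralizer_singleton_iff.2 (mul_inv_eq_iff_eq_mul.1 he)
    refine dvd_trans ?_ (orderOf_dvd_natCard (⟨u, hu'⟩ : Subgroup.centralizer _))
    rw [Subgroup.orderOf_mk, ht]
    exact dvd_pow_self p ht0
  letI : MulAction U X :=
    { smul := fun u y => ⟨u.1 * y.1 * u.1⁻¹, y.2.trans (isConj_iff.2 ⟨u.1, rfl⟩)⟩
      one_smul := fun y => Subtype.ext (by show (1 : (SpecialLinearGroup (Fin n) F)) * y.1 * (1 : (SpecialLinearGroup (Fin n) F))⁻¹ = y.1; simp)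
      mul_smul := fun u v y => Subtype.ext (by
        show (u.1 * v.1) * y.1 * (u.1 * v.1)⁻¹ = u.1 * (v.1 * y.1 * v.1⁻¹) * u.1⁻¹
        group) }
  have hsmul : ∀ (u : U) (y : X), (u • y).1 = u.1 * y.1 * u.1⁻¹ := fun u y => rfl
  have hβ : ∀ (u : U) (y : X), β (u • y).1 = β y.1 := by
    intro u y
    refine Nat.card_congr (Equiv.subtypeEquiv (MulAut.conj u.1⁻¹).toEquiv fun z => ?_)
    rw [hsmul, MulEquiv.toEquiv_eq_coe, MulEquiv.coe_toEquiv, MulAut.conj_apply, inv_inv]
    refine and_congr ⟨fun h => h.trans (isConj_iff.2 ⟨u.1⁻¹, by simp⟩),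
      fun h => h.trans (isConj_iff.2 ⟨u.1, by simp [mul_assoc]⟩)⟩ ?_
    rw [show (u.1⁻¹ * z * u.1) * y.1⁻¹ = u.1⁻¹ * (z * (u.1 * y.1 * u.1⁻¹)⁻¹) * u.1 by
        simp [mul_assoc],
      Subgroup.mul_mem_cancel_right _ u.2, Subgroup.mul_mem_cancel_left _ (inv_mem u.2)]
  let Ω := MulAction.orbitRel.Quotient U X
  haveI : Fintype Ω := Fintype.ofFinite Ω
  let e : Ω × U ≃ X := Equiv.ofBijective (fun ou => ou.2 • ou.1.out) ⟨by
    rintro ⟨o, u⟩ ⟨o', u'⟩ h
    simp only at h
    have ho : o = o' := by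
      have hcl : ∀ (w : Ω) (v : U), (Quotient.mk (MulAction.orbitRel U X) (v • w.out) : Ω) = w :=
        fun w v => (Quotient.sound (s := MulAction.orbitRel U X) (MulAction.mem_orbit w.out v)).trans
          (Quotient.out_eq w)
      rw [← hcl o u, h, hcl o' u']
    subst ho
    have h1 : (u'⁻¹ * u) • o.out = o.out := by rw [mul_smul, h, inv_smul_smul]
    have h2 := hfree hkc _ o.out.2 _ (u'⁻¹ * u).2 ((hsmul _ _).symm.trans (congrArg Subtype.val h1))
    rw [(inv_mul_eq_one.1 (Subtype.ext h2 : u'⁻¹ * u = 1))], fun y => by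
    obtain ⟨u, hu⟩ := Quotient.exact (Quotient.out_eq (Quotient.mk (MulAction.orbitRel U X) y) : _)
    exact ⟨(Quotient.mk _ y, u⁻¹), by simp only [← hu, inv_smul_smul]⟩⟩
  have hcount : Nat.card {yz : (SpecialLinearGroup (Fin n) F) × (SpecialLinearGroup (Fin n) F) // IsConj k yz.1 ∧ IsConj l yz.2 ∧ yz.2 * yz.1⁻¹ ∈ U} =
      Nat.card U * ∑ o : Ω, β o.out.1 := by
    rw [Nat.card_congr (show {yz : (SpecialLinearGroup (Fin n) F) × (SpecialLinearGroup (Fin n) F) // IsConj k yz.1 ∧ IsConj l yz.2 ∧ yz.2 * yz.1⁻¹ ∈ U} ≃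
        Σ y : X, {z : (SpecialLinearGroup (Fin n) F) // IsConj l z ∧ z * y.1⁻¹ ∈ U} from
      { toFun := fun w => ⟨⟨w.1.1, w.2.1⟩, ⟨w.1.2, w.2.2⟩⟩
        invFun := fun w => ⟨(w.1.1, w.2.1), w.1.2, w.2.2⟩
        left_inv := fun w => rfl
        right_inv := fun w => rfl }), Nat.card_sigma, ← e.sum_comp, Fintype.sum_prod_type, Finset.mul_sum]
    refine Finset.sum_congr rfl fun o _ => ?_
    show ∑ u : U, β (u • o.out).1 = _
    simp only [hβ, Finset.sum_const, Finset.card_univ, smul_eq_mul, Nat.card_eq_fintype_card]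
  rw [hcount, Nat.mul_div_cancel_left _ Nat.card_pos, Nat.cast_sum]
  -- orbits with nontrivial intersection do not count
  have hnon : ∀ y : X, inter (y.1)⁻¹ ≠ ⊥ → (β y.1 : F) = 0 := by
    intro y hy
    rw [CharP.cast_eq_zero_iff F p]
    set H := inter (y.1)⁻¹ with hH
    have hHU : H ≤ U := inf_le_left
    have hHy : ∀ h ∈ H, y.1 * h⁻¹ * y.1⁻¹ ∈ U := by
      intro h hh
      obtain ⟨w, hw, rfl⟩ := (hh : h ∈ inter (y.1)⁻¹).2
      simp only [MulEquiv.coe_toMonoidHom, MulAut.conj_apply, inv_inv]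
      rw [show y.1 * (y.1⁻¹ * w * y.1)⁻¹ * y.1⁻¹ = w⁻¹ by group]
      exact inv_mem hw
    let Z := {z : (SpecialLinearGroup (Fin n) F) // IsConj l z ∧ z * (y.1)⁻¹ ∈ U}
    letI : MulAction H Z :=
      { smul := fun h z => ⟨h.1 * z.1 * h.1⁻¹, z.2.1.trans (isConj_iff.2 ⟨h.1, rfl⟩), by
          rw [show h.1 * z.1 * h.1⁻¹ * (y.1)⁻¹ = h.1 * (z.1 * (y.1)⁻¹) * (y.1 * h.1⁻¹ * (y.1)⁻¹) by group]
          exact mul_mem (mul_mem (hHU h.2) z.2.2) (hHy _ h.2)⟩
        one_smul := fun z => Subtype.ext (by show (1 : (SpecialLinearGroup (Fin n) F)) * z.1 * (1 : (SpecialLinearGroup (Fin n) F))⁻¹ = z.1; simp)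
        mul_smul := fun u v z => Subtype.ext (by
          show (u.1 * v.1) * z.1 * (u.1 * v.1)⁻¹ = u.1 * (v.1 * z.1 * v.1⁻¹) * u.1⁻¹
          group) }
    have hHp : IsPGroup p H := (isPGroup_uniU p).to_le hHU
    have hmod := hHp.card_modEq_card_fixedPoints Z
    have hfix : IsEmpty (MulAction.fixedPoints H Z) := ⟨fun z => by
      obtain ⟨h, hh, hne⟩ := (Subgroup.ne_bot_iff_exists_ne_one).1 hy |> fun ⟨⟨h, hh⟩, hne⟩ =>
        (⟨h, hh, fun e => hne (Subtype.ext e)⟩ : ∃ h, h ∈ H ∧ h ≠ 1)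
      exact hne (hfree hlc _ z.1.2.1 h (hHU hh) (congrArg Subtype.val (z.2 ⟨h, hh⟩)))⟩
    rw [@Nat.card_of_isEmpty _ hfix] at hmod
    exact Nat.modEq_zero_iff_dvd.1 hmod
  -- the free orbits
  let Y := (a : AD n F) × {x : Free n → F // IsConj k (el a x)}
  let Φ : Y → Ω := fun w => Quotient.mk _ (⟨el w.1 w.2.1, w.2.2⟩ : X)
  have hbot : ∀ (a : AD n F) (x : Free n → F), inter (el a x)⁻¹ = ⊥ := by
    intro a x
    rw [Subgroup.eq_bot_iff_forall]
    rintro h ⟨h1, w, hw, hwe⟩
    simp only [MulEquiv.coe_toMonoidHom, MulAut.conj_apply, inv_inv] at hwe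
    have hcell : (el a x) * h * (el a 0)⁻¹ ∈ U := by
      rw [← hwe, show el a x * ((el a x)⁻¹ * w * el a x) * (el a 0)⁻¹ =
        w * (el a x * (el a 0)⁻¹) by group]
      exact mul_mem hw ((mem_cell_iff a _).2 ⟨x, rfl⟩)
    obtain ⟨x', hx'⟩ := (mem_cell_iff a _).1 hcell
    exact (el_mul_eq h1 hx').1
  have hΦ : Function.Injective Φ := by
    rintro ⟨a, x, hx⟩ ⟨a', x', hx'⟩ h
    obtain ⟨u, hu⟩ := Quotient.exact h
    have hu' : u.1 * el a' x' * u.1⁻¹ = el a x := congrArg Subtype.val hu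
    have hc : el a x * u.1 * (el a' 0)⁻¹ ∈ U := by
      rw [← hu', show u.1 * el a' x' * u.1⁻¹ * u.1 * (el a' 0)⁻¹ =
        u.1 * (el a' x' * (el a' 0)⁻¹) by group]
      exact mul_mem u.2 ((mem_cell_iff a' _).2 ⟨x', rfl⟩)
    obtain ⟨x'', hx''⟩ := (mem_cell_iff a' _).1 hc
    obtain ⟨h1, rfl, rfl⟩ := el_mul_eq u.2 hx''
    rw [h1, one_mul, inv_one, mul_one] at hu'
    obtain ⟨-, -, rfl⟩ := el_mul_eq (one_mem U) ((mul_one _).trans hu'.symm : el a x * 1 = el a x')
    rfl
  have hsum : ∑ o : Ω, (β o.out.1 : F) = ∑ w : Y, (β (el w.1 w.2.1) : F) := by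
    have hrep : ∀ y : X, β (Quotient.mk (MulAction.orbitRel U X) y).out.1 = β y.1 := by
      intro y
      obtain ⟨u, hu⟩ := Quotient.exact (Quotient.out_eq (Quotient.mk (MulAction.orbitRel U X) y) : _)
      rw [← hu, hβ]
    symm
    rw [← Finset.sum_image (f := fun o : Ω => (β o.out.1 : F)) (g := Φ) (fun a _ b _ h => hΦ h) |>.trans
      (Finset.sum_congr rfl fun w _ => by rw [hrep])]
    refine Finset.sum_subset (Finset.subset_univ _) fun o _ ho => hnon o.out fun hb => ho ?_
    obtain ⟨A, hA, B, hB, σ, hg⟩ := exists_bruhat (o.out.1)⁻¹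
    obtain rfl := eq_rev_of_inter_eq_bot hA hB hg hb
    -- write the representative in the cell of the long element
    obtain ⟨u₁, hu₁, a, u₂, hu₂, hy⟩ : ∃ u₁ ∈ U, ∃ a : AD n F, ∃ u₂ ∈ U,
        o.out.1 = u₁ * el a 0 * u₂ := exists_long_form hA hB hg
    let v : U := ⟨u₂, hu₂⟩
    have hc : (v • o.out).1 * (el a 0)⁻¹ ∈ U := by
      rw [hsmul, hy, show v.1 * (u₁ * el a 0 * u₂) * v.1⁻¹ * (el a 0)⁻¹ = u₂ * u₁ by
        show u₂ * (u₁ * el a 0 * u₂) * u₂⁻¹ * (el a 0)⁻¹ = u₂ * u₁
        group]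
      exact mul_mem hu₂ hu₁
    obtain ⟨x, hx⟩ := (mem_cell_iff a _).1 hc
    refine Finset.mem_image.2 ⟨⟨a, x, hx ▸ (v • o.out).2⟩, Finset.mem_univ _, ?_⟩
    exact (Quotient.sound (s := MulAction.orbitRel U X)
      (⟨v, Subtype.ext hx⟩ : (⟨el a x, hx ▸ (v • o.out).2⟩ : X) ∈ MulAction.orbit U o.out)).trans
      (Quotient.out_eq o)
  rw [hsum, Fintype.sum_sigma]
  have hC : ∀ {m : (SpecialLinearGroup (Fin n) F)}, ¬ p ∣ orderOf m → ¬ p ∣ Nat.card (Subgroup.centralizer ({m} : Set (SpecialLinearGroup (Fin n) F))) →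
      ∀ a : AD n F, (Nat.card {x : Free n → F // IsConj m (el a x)} : F) =
        (-1 : F) ^ (Fintype.card (Free n) + (n - 1)) := fun h h' a => card_cell_class p hn h h' a
  have hβel : ∀ (a : AD n F) (x : Free n → F),
      β (el a x) = Nat.card {x' : Free n → F // IsConj l (el a x')} := by
    intro a x
    have hax : el a x * (el a 0)⁻¹ ∈ U := (mem_cell_iff a _).2 ⟨x, rfl⟩
    have hiff : ∀ z : (SpecialLinearGroup (Fin n) F), z * (el a x)⁻¹ ∈ U ↔ ∃ x', z = el a x' := fun z => by
      rw [← mem_cell_iff a z, show z * (el a 0)⁻¹ = z * (el a x)⁻¹ * (el a x * (el a 0)⁻¹) by group,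
        Subgroup.mul_mem_cancel_right _ hax]
    refine (Nat.card_eq_of_bijective
      (fun x' : {x' : Free n → F // IsConj l (el a x')} =>
        (⟨el a x'.1, x'.2, (hiff _).2 ⟨_, rfl⟩⟩ : {z : (SpecialLinearGroup (Fin n) F) // IsConj l z ∧ z * (el a x)⁻¹ ∈ U}))
      ⟨fun x' x'' h => ?_, fun z => ?_⟩).symm
    · exact Subtype.ext (el_mul_eq (one_mem U) ((mul_one _).trans (congrArg Subtype.val h))).2.2
    · obtain ⟨x', hx'⟩ := (hiff _).1 z.2.2
      exact ⟨⟨x', hx' ▸ z.2.1⟩, Subtype.ext hx'.symm⟩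
  have hterm : ∀ a : AD n F, ∑ x : {x : Free n → F // IsConj k (el a x)}, (β (el a x.1) : F) = 1 := by
    intro a
    simp only [hβel, Finset.sum_const, Finset.card_univ, nsmul_eq_mul, ← Nat.card_eq_fintype_card,
      hC hk hkc a, hC hl hlc a, ← pow_add]
    exact Even.neg_one_pow ⟨_, rfl⟩
  simp only [hterm, Finset.sum_const, Finset.card_univ, nsmul_eq_mul, mul_one, ← Nat.card_eq_fintype_card]

/-- There is exactly one block of defect zero. -/
theorem card_blocks_zero (hn : 1 ≤ n) {M : Ideal AlgInt} (hM : IsPModular p M)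
    [Fintype (SpecialLinearGroup (Fin n) F)] :
    Nat.card {B : Set (IrrCharacter (SpecialLinearGroup (Fin n) F)) //
      IsPBlock M B ∧ blockDefect p B = 0} = 1 := by
  classical
  haveI : M.IsPrime := hM.2.1.isPrime
  have hiff : ∀ B : Set (IrrCharacter (SpecialLinearGroup (Fin n) F)), IsPBlock M B →
      (blockDefect p B = 0 ↔ IsDefectGroup p M B (⊥ : Subgroup (SpecialLinearGroup (Fin n) F))) := by
    intro B hB
    rw [isDefectGroup_iff_of_normal hM hB ⊥ IsPGroup.of_bot, Subgroup.card_bot, Nat.factorization_one]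
    rfl
  rw [Nat.card_congr (Equiv.subtypeEquivRight fun B => and_congr_right fun h => hiff B h)]
  let ι := {C : ConjClasses (SpecialLinearGroup (Fin n) F) // ∃ x ∈ C.carrier, ¬ p ∣ orderOf x ∧
      ∃ Q : Sylow p (Subgroup.centralizer ({x} : Set (SpecialLinearGroup (Fin n) F))),
        (Q : Subgroup (Subgroup.centralizer ({x} : Set (SpecialLinearGroup (Fin n) F)))).map
          (Subgroup.centralizer ({x} : Set (SpecialLinearGroup (Fin n) F))).subtype = ⊥}
  haveI : Fintype ι := Fintype.ofFinite ι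
  rw [card_blocks_eq_rank hM ⊥ IsPGroup.of_bot (sylU n F p) (fun i : ι => i.1) Subtype.val_injective
    (fun C => ⟨fun ⟨i, hi⟩ => hi ▸ i.2, fun h => ⟨⟨C, h⟩, rfl⟩⟩)]
  have hbot : ∀ x : (SpecialLinearGroup (Fin n) F), (∃ Q : Sylow p (Subgroup.centralizer ({x} : Set (SpecialLinearGroup (Fin n) F))),
      (Q : Subgroup (Subgroup.centralizer ({x} : Set (SpecialLinearGroup (Fin n) F)))).map
        (Subgroup.centralizer ({x} : Set (SpecialLinearGroup (Fin n) F))).subtype = ⊥) ↔
      ¬ p ∣ Nat.card (Subgroup.centralizer ({x} : Set (SpecialLinearGroup (Fin n) F))) := by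
    intro x
    constructor
    · rintro ⟨Q, hQ⟩ h
      rw [Subgroup.map_eq_bot_iff_of_injective _ (Subgroup.subtype_injective _)] at hQ
      have := Q.card_eq_multiplicity
      rw [hQ, Subgroup.card_bot, eq_comm, Nat.pow_eq_one] at this
      exact ((Fact.out : p.Prime).factorization_pos_of_dvd Nat.card_pos.ne' h).ne'
        (this.resolve_left (Fact.out : p.Prime).ne_one)
    · intro h
      obtain ⟨Q⟩ : Nonempty (Sylow p (Subgroup.centralizer ({x} : Set (SpecialLinearGroup (Fin n) F)))) := inferInstance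
      refine ⟨Q, ?_⟩
      rw [Subgroup.map_eq_bot_iff_of_injective _ (Subgroup.subtype_injective _),
        Subgroup.eq_bot_iff_card, Q.card_eq_multiplicity, Nat.factorization_eq_zero_of_not_dvd h,
        pow_zero]
  set t : ZMod p := (Nat.card (AD n F) : ZMod p) with ht
  have ht0 : t ≠ 0 := fun h => card_AD_ne_zero p hn ((CharP.cast_eq_zero_iff F p _).2
    ((CharP.cast_eq_zero_iff (ZMod p) p _).1 h) : (Nat.card (AD n F) : F) = 0)
  have hqU : p ^ ((Nat.card (SpecialLinearGroup (Fin n) F)).factorization p - (Nat.card (⊥ : Subgroup (SpecialLinearGroup (Fin n) F))).factorization p) =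
      Nat.card (uniU n F) := by
    rw [Subgroup.card_bot, Nat.factorization_one, ← sylU_coe p, Sylow.card_eq_multiplicity]
    rfl
  have hentry : ∀ i j : ι, ((Nat.card {yz : (SpecialLinearGroup (Fin n) F) × (SpecialLinearGroup (Fin n) F) // yz.1 ∈ i.1.carrier ∧ yz.2 ∈ j.1.carrier ∧
      yz.2 * yz.1⁻¹ ∈ (sylU n F p : Subgroup (SpecialLinearGroup (Fin n) F))} / p ^ ((Nat.card (SpecialLinearGroup (Fin n) F)).factorization p -
        (Nat.card (⊥ : Subgroup (SpecialLinearGroup (Fin n) F))).factorization p) : ℕ) : ZMod p) = t := by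
    intro i j
    obtain ⟨k, hk, hkr, hkQ⟩ := i.2
    obtain ⟨l, hl, hlr, hlQ⟩ := j.2
    rw [hqU]
    have hci : ∀ y : (SpecialLinearGroup (Fin n) F), y ∈ i.1.carrier ↔ IsConj k y := fun y => by
      rw [← ConjClasses.mem_carrier_iff_mk_eq.1 hk, ConjClasses.mem_carrier_iff_mk_eq,
        ConjClasses.mk_eq_mk_iff_isConj, isConj_comm]
    have hcj : ∀ y : (SpecialLinearGroup (Fin n) F), y ∈ j.1.carrier ↔ IsConj l y := fun y => by
      rw [← ConjClasses.mem_carrier_iff_mk_eq.1 hl, ConjClasses.mem_carrier_iff_mk_eq,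
        ConjClasses.mk_eq_mk_iff_isConj, isConj_comm]
    simp only [hci, hcj, sylU_coe]
    have h := card_pairs_cast p hn hkr ((hbot k).1 hkQ) hlr ((hbot l).1 hlQ)
    rw [ht, ZMod.natCast_eq_natCast_iff]
    exact (CharP.natCast_eq_natCast F p).1 h
  have hι : Nonempty ι := by
    obtain ⟨x, hx, hxc⟩ := exists_regular (F := F) p hn
    exact ⟨⟨ConjClasses.mk x, x, ConjClasses.mem_carrier_mk, hx, (hbot x).2 hxc⟩⟩
  rw [show (Matrix.of fun i j : ι => _) = Matrix.vecMulVec (fun _ : ι => t) (fun _ : ι => (1 : ZMod p))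
    from Matrix.ext fun i j => by rw [Matrix.of_apply, hentry i j, Matrix.vecMulVec_apply, mul_one]]
  refine le_antisymm (Matrix.rank_vecMulVec_le _ _) ?_
  rw [Nat.one_le_iff_ne_zero]
  intro h
  obtain ⟨i⟩ := hι
  rw [Matrix.rank, Submodule.finrank_eq_zero, LinearMap.range_eq_bot] at h
  have := congrFun (LinearMap.congr_fun h (Pi.single i 1)) i
  simp [Matrix.vecMulVec_apply] at this
  exact ht0 this

end Cfsg.Agent.SLBlocks
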