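import Cfsg.Agent.Lib.SLBlocks.DefectZero

/-!
# All blocks of the special linear group in its own characteristic
-/

set_option autoImplicit false
set_option linter.unusedSectionVars false

namespace Cfsg.Agent.SLBlocks

open Matrix Cfsg Cfsg.Agent.Blocks

universe u

variable {n : ℕ} {F : Type u} [Field F] [Fintype F] (p : ℕ) [Fact p.Prime] [CharP F p]
  {M : Ideal AlgInt} [Fintype (SpecialLinearGroup (Fin n) F)]

theorem factorization_card_pos (hn : 2 ≤ n) :
    0 < (Nat.card (SpecialLinearGroup (Fin n) F)).factorization p := by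
  have hab : (⟨0, by omega⟩ : Fin n) < ⟨n - 1, by omega⟩ := by
    show 0 < n - 1
    omega
  have hm : SpecialLinearGroup.transvection (ne_of_lt hab) (1 : F) ∈ uniU n F :=
    (transvection_pat (σ := 1) hab (by simpa using hab) (1 : F)).1
  rw [Nat.pos_iff_ne_zero]
  intro h
  have hc : Nat.card (uniU n F) = 1 := by
    rw [← sylU_coe p, Sylow.card_eq_multiplicity, h, pow_zero]
  rw [Subgroup.eq_bot_of_card_eq _ hc, Subgroup.mem_bot] at hm
  have h2 := congrFun (congrFun (congrArg Subtype.val hm) ⟨0, by omega⟩) ⟨n - 1, by omega⟩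
  simp [SpecialLinearGroup.transvection, Matrix.transvection, Matrix.one_apply_ne (ne_of_lt hab)] at h2

/-- A block has defect group `uniU` exactly when it does not have defect zero. -/
theorem isDefectGroup_uniU_iff (hn : 2 ≤ n) (hM : IsPModular p M)
    {B : Set (IrrCharacter (SpecialLinearGroup (Fin n) F))} (hB : IsPBlock M B) :
    IsDefectGroup p M B (uniU n F) ↔ ¬ blockDefect p B = 0 := by
  haveI : M.IsPrime := hM.2.1.isPrime
  constructor
  · intro h h0
    have h1 := card_defectGroup hM hB h
    rw [h0, ← sylU_coe p, Sylow.card_eq_multiplicity] at h1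
    exact (factorization_card_pos (F := F) p hn).ne'
      (Nat.pow_right_injective (Fact.out : p.Prime).two_le h1)
  · intro h
    rcases defect_cases p hM hB with h' | h'
    · exact absurd h'.1 h
    · exact h'.2

/-- The number of blocks. -/
theorem card_blocks (hn : 2 ≤ n) (hM : IsPModular p M) :
    Nat.card {B : Set (IrrCharacter (SpecialLinearGroup (Fin n) F)) // IsPBlock M B} =
      Nat.gcd n (Fintype.card F - 1) + 1 := by
  classical
  haveI : Finite {B : Set (IrrCharacter (SpecialLinearGroup (Fin n) F)) // IsPBlock M B} :=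
    Subtype.finite
  rw [← Nat.card_congr (Equiv.sumCompl fun B : {B : Set (IrrCharacter (SpecialLinearGroup (Fin n) F)) //
      IsPBlock M B} => blockDefect p B.1 = 0), Nat.card_sum, add_comm (Nat.gcd _ _)]
  congr 1
  · rw [← card_blocks_zero (n := n) (F := F) p (by omega) hM]
    exact Nat.card_congr (Equiv.subtypeSubtypeEquivSubtypeInter _
      (fun B => blockDefect p B = 0))
  · rw [← card_blocks_full (n := n) (F := F) p hn hM]
    refine Nat.card_congr ((Equiv.subtypeSubtypeEquivSubtypeInter _
      (fun B => ¬ blockDefect p B = 0)).trans (Equiv.subtypeEquivRight fun B =>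
        and_congr_right fun hB => (isDefectGroup_uniU_iff p hn hM hB).symm))

end Cfsg.Agent.SLBlocks
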