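import Cfsg.Agent.Lib.SLBlocks.Main
import Cfsg.Agent.Lib.Classical.SL2Table
import Cfsg.Agent.Lib.Char.Complete
import Cfsg.Agent.Lib.Char.DegreeCenter

/-!
# The three blocks of `SL₂` in odd defining characteristic
-/

set_option autoImplicit false
set_option linter.unusedSectionVars false
set_option linter.style.haveILetI false

namespace Cfsg.Agent.SLBlocks

open Matrix Cfsg Cfsg.Agent.Blocks Cfsg.Agent.Char

universe u

variable {F : Type u} [Field F] [Fintype F] (p : ℕ) [Fact p.Prime] [CharP F p] {M : Ideal AlgInt}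

local notation "SL2" => Matrix.SpecialLinearGroup (Fin 2) F

theorem sl2_blocks (hp : p ≠ 2) (hM : IsPModular p M) :
    (∀ B : Set (IrrCharacter SL2), IsPBlock M B ↔
      (B = {χ : IrrCharacter SL2 | (χ : SL2 → ℂ) 1 = (Fintype.card F : ℂ)} ∨
       B = {χ : IrrCharacter SL2 | (χ : SL2 → ℂ) (-1) = (χ : SL2 → ℂ) 1 ∧
          (χ : SL2 → ℂ) 1 ≠ (Fintype.card F : ℂ)} ∨
       B = {χ : IrrCharacter SL2 | (χ : SL2 → ℂ) (-1) = -(χ : SL2 → ℂ) 1})) ∧
    Nat.card {B : Set (IrrCharacter SL2) // IsPBlock M B} = 3 ∧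
    ∀ P : Sylow p SL2,
      IsDefectGroup p M {χ : IrrCharacter SL2 | (χ : SL2 → ℂ) (-1) = (χ : SL2 → ℂ) 1 ∧
          (χ : SL2 → ℂ) 1 ≠ (Fintype.card F : ℂ)} (P : Subgroup SL2) ∧
      IsDefectGroup p M {χ : IrrCharacter SL2 | (χ : SL2 → ℂ) (-1) = -(χ : SL2 → ℂ) 1}
        (P : Subgroup SL2) := by
  classical
  haveI : Fintype SL2 := Fintype.ofFinite _
  haveI : M.IsPrime := hM.2.1.isPrime
  have hpp : p.Prime := Fact.out
  have h2F : (2 : F) ≠ 0 := by
    intro h
    have h1 : (p : ℕ) ∣ 2 := (CharP.cast_eq_zero_iff F p 2).1 (by exact_mod_cast h)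
    exact hp ((Nat.prime_dvd_prime_iff_eq hpp Nat.prime_two).1 h1)
  obtain ⟨f, -, hq⟩ := FiniteField.card F p
  set z : SL2 := -1 with hz
  have hzc : z ∈ Subgroup.center SL2 := by
    rw [Subgroup.mem_center_iff]
    intro g
    exact Subtype.ext (by simp [hz])
  have hzz : z * z = 1 := by simp [hz]
  have hz1 : z ≠ 1 := by
    intro h
    have h' := congrFun (congrFun (congrArg Subtype.val h) 0) 0
    simp [hz] at h'
    exact h2F (by linear_combination -h')
  -- the sign of a character at `-1`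
  have hsign : ∀ χ : IrrCharacter SL2,
      (χ : SL2 → ℂ) z = (χ : SL2 → ℂ) 1 ∨ (χ : SL2 → ℂ) z = -(χ : SL2 → ℂ) 1 := by
    intro χ
    obtain ⟨c, -, hc, -⟩ := IsIrrCharacter.exists_central_scalar χ.2 hzc
    have h1 := hc z
    rw [hzz] at h1
    have h2 := hc 1
    rw [mul_one] at h2
    rw [h2, ← mul_assoc] at h1
    have h3 : c * c = 1 := (mul_left_eq_self₀.1 h1.symm).resolve_right (irr_one_ne_zero χ)
    rcases mul_self_eq_one_iff.1 h3 with rfl | rfl
    · exact Or.inl (by rw [h2, one_mul])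
    · exact Or.inr (by rw [h2]; ring)
  have hcc : ∀ χ : IrrCharacter SL2, centralChar (χ : SL2 → ℂ) z =
      (χ : SL2 → ℂ) z / (χ : SL2 → ℂ) 1 := by
    intro χ
    have h : Subgroup.centralizer ({z} : Set SL2) = ⊤ := by
      rw [eq_top_iff]
      intro g _
      rw [Subgroup.mem_centralizer_singleton_iff]
      exact Subgroup.mem_center_iff.1 hzc g
    rw [centralChar, h, Subgroup.index_top, Nat.cast_one, one_mul]
  have htwo : ¬ MemLocalIdeal M (2 : ℂ) := by
    intro h
    have := (natCast_memLocalIdeal_iff hM 2).1 (by simpa using h)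
    exact hp ((Nat.prime_dvd_prime_iff_eq hpp Nat.prime_two).1 this)
  have hblock : ∀ χ ψ : IrrCharacter SL2, SameBlock M (χ : SL2 → ℂ) (ψ : SL2 → ℂ) →
      (χ : SL2 → ℂ) z = (χ : SL2 → ℂ) 1 → (ψ : SL2 → ℂ) z = (ψ : SL2 → ℂ) 1 := by
    intro χ ψ hs hχ
    refine (hsign ψ).resolve_right fun hψ => htwo ?_
    have h := hs z
    rwa [hcc, hcc, hχ, hψ, neg_div, div_self (irr_one_ne_zero χ), div_self (irr_one_ne_zero ψ),
      sub_neg_eq_add, one_add_one_eq_two] at h
  -- the Steinberg character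
  let st : IrrCharacter SL2 := Cfsg.Agent.SL2Table.stI
  have hst1 : (st : SL2 → ℂ) 1 = (Fintype.card F : ℂ) := Cfsg.Agent.SL2Principal.St_one
  have hstz : (st : SL2 → ℂ) z = (st : SL2 → ℂ) 1 := by
    rw [hst1]
    have hzs : z = Cfsg.Agent.SL2Principal.sm (-1 : Fˣ) (0 : F) := by
      refine Subtype.ext (Matrix.ext fun i j => ?_)
      fin_cases i <;> fin_cases j <;> simp [hz]
    show Cfsg.Agent.SL2Principal.St z = _
    rw [hzs, Cfsg.Agent.SL2Principal.St, Pi.sub_apply,
      Cfsg.Agent.SL2Principal.R_scalar _ (by simp), MulChar.one_apply_coe]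
    ring
  have hfull : ∀ χ : IrrCharacter SL2, (χ : SL2 → ℂ) 1 = (Fintype.card F : ℂ) →
      blockOf M (χ : SL2 → ℂ) = {χ} ∧ blockDefect p (blockOf M (χ : SL2 → ℂ)) = 0 := by
    intro χ hχ
    have hd : charDegree (χ : SL2 → ℂ) = Fintype.card F := by
      have h := irr_one_eq_charDegree χ
      rw [hχ] at h
      exact_mod_cast h.symm
    have hG : (Nat.card SL2).factorization p = (f : ℕ) := by
      have h := Sylow.card_eq_multiplicity (sylU 2 F p)
      rw [sylU_coe] at h
      have hU : Nat.card (uniU 2 F) = Fintype.card F := by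
        rw [← Nat.card_eq_fintype_card]
        refine Nat.card_congr
          { toFun := fun u => u.1.1 0 1
            invFun := fun t => ⟨SpecialLinearGroup.transvection (by decide : (0 : Fin 2) ≠ 1) t,
              (transvection_pat (σ := 1) (by decide) (by decide) t).1⟩
            left_inv := fun u => Subtype.ext (Subtype.ext (Matrix.ext fun i j => ?_))
            right_inv := fun t => ?_ }
        · have h00 := u.2.2 0
          have h11 := u.2.2 1
          have h10 : u.1.1 1 0 = 0 := u.2.1 (show (0 : Fin 2) < 1 by decide)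
          fin_cases i <;> fin_cases j <;>
            simp [SpecialLinearGroup.transvection, Matrix.transvection, h00, h11, h10]
        · simp [SpecialLinearGroup.transvection, Matrix.transvection]
      rw [hU, hq] at h
      exact (Nat.pow_right_injective hpp.two_le h).symm
    have hsing := blockOf_eq_singleton hM χ
      (by rw [hd, hG, hq, hpp.factorization_pow, Finsupp.single_eq_same])
    refine ⟨hsing, ?_⟩
    rw [hsing, blockDefect, Set.image_singleton, csInf_singleton, hd, hG, hq,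
      hpp.factorization_pow, Finsupp.single_eq_same, Nat.sub_self]
  -- the only block of defect zero
  have hzero : ∀ B, IsPBlock M B → blockDefect p B = 0 → B = blockOf M (st : SL2 → ℂ) := by
    intro B hB hB0
    haveI := (Nat.card_eq_one_iff_unique.1 (card_blocks_zero (n := 2) (F := F) p (by omega) hM)).1
    exact congrArg Subtype.val (Subsingleton.elim
      (⟨B, hB, hB0⟩ : {B : Set (IrrCharacter SL2) // IsPBlock M B ∧ blockDefect p B = 0})
      ⟨_, isPBlock_blockOf st, (hfull st hst1).2⟩)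
  have hS0 : ∀ χ : IrrCharacter SL2, (χ : SL2 → ℂ) 1 = (Fintype.card F : ℂ) ↔ χ = st := by
    intro χ
    refine ⟨fun h => ?_, fun h => h ▸ hst1⟩
    have h1 := hzero _ (isPBlock_blockOf χ) (hfull χ h).2
    rw [(hfull χ h).1, (hfull st hst1).1] at h1
    exact Set.singleton_eq_singleton_iff.1 h1
  -- a character that is faithful on the centre
  obtain ⟨ne, hne⟩ : ∃ χ : IrrCharacter SL2, (χ : SL2 → ℂ) z = -(χ : SL2 → ℂ) 1 := by
    by_contra hcon
    push Not at hcon
    have h := Cfsg.Agent.Char.column_orth_of_not_isConj (G := SL2) (g := z) (h := 1)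
      (fun h => hz1 (isConj_one_left.1 h))
    have h' := Cfsg.Agent.Char.column_orth_of_isConj (G := SL2) (g := 1) (h := 1) (IsConj.refl _)
    rw [Finset.sum_congr rfl fun χ _ => by rw [(hsign χ).resolve_right (hcon χ)], h'] at h
    exact Nat.cast_ne_zero.2 Nat.card_pos.ne' h
  let one : IrrCharacter SL2 := Cfsg.Agent.SL2Table.oneI
  have hne' : (ne : SL2 → ℂ) z ≠ (ne : SL2 → ℂ) 1 := fun h => irr_one_ne_zero ne (by
    rw [hne] at h; linear_combination -(1 / 2 : ℂ) * h)
  -- the two blocks of full defect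
  have hone0 : ¬ blockDefect p (blockOf M (one : SL2 → ℂ)) = 0 := by
    intro h
    have h1 := hzero _ (isPBlock_blockOf one) h
    have h2 : one ∈ blockOf M (st : SL2 → ℂ) := h1 ▸ self_mem_blockOf one
    rw [(hfull st hst1).1, Set.mem_singleton_iff] at h2
    have h3 : (one : SL2 → ℂ) 1 = (Fintype.card F : ℂ) := by rw [h2, hst1]
    have h4 : (1 : ℂ) = ((Fintype.card F : ℕ) : ℂ) := h3
    have := Fintype.one_lt_card (α := F)
    have : (1 : ℕ) = Fintype.card F := by exact_mod_cast h4
    omega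
  have hne0 : ¬ blockDefect p (blockOf M (ne : SL2 → ℂ)) = 0 := by
    intro h
    have h2 : ne ∈ blockOf M (st : SL2 → ℂ) := hzero _ (isPBlock_blockOf ne) h ▸ self_mem_blockOf ne
    rw [(hfull st hst1).1, Set.mem_singleton_iff] at h2
    rw [h2] at hne'
    exact hne' hstz
  have hgcd : Nat.gcd 2 (Fintype.card F - 1) = 2 := by
    refine Nat.gcd_eq_left ?_
    have hodd : Odd (Fintype.card F) := hq ▸ (hpp.odd_of_ne_two hp).pow
    obtain ⟨k, hk⟩ := hodd
    exact ⟨k, by omega⟩
  have hdiff : blockOf M (one : SL2 → ℂ) ≠ blockOf M (ne : SL2 → ℂ) := fun h =>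
    hne' (hblock one ne ((blockOf_eq_iff one ne).1 h) rfl)
  have hcases : ∀ B, IsPBlock M B → B = blockOf M (st : SL2 → ℂ) ∨
      B = blockOf M (one : SL2 → ℂ) ∨ B = blockOf M (ne : SL2 → ℂ) := by
    intro B hB
    by_cases h0 : blockDefect p B = 0
    · exact Or.inl (hzero B hB h0)
    refine Or.inr ?_
    by_contra hcon
    push Not at hcon
    let T := {B : Set (IrrCharacter SL2) // IsPBlock M B ∧ IsDefectGroup p M B (uniU 2 F)}
    have hmk : ∀ B, IsPBlock M B → ¬ blockDefect p B = 0 → IsPBlock M B ∧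
        IsDefectGroup p M B (uniU 2 F) := fun B h h' =>
      ⟨h, (isDefectGroup_uniU_iff p le_rfl hM h).2 h'⟩
    let a : T := ⟨B, hmk B hB h0⟩
    let b : T := ⟨_, hmk _ (isPBlock_blockOf one) hone0⟩
    let c : T := ⟨_, hmk _ (isPBlock_blockOf ne) hne0⟩
    have h3 : ({a, b, c} : Finset T).card = 3 := by
      rw [Finset.card_eq_three]
      exact ⟨a, b, c, fun h => hcon.1 (congrArg Subtype.val h),
        fun h => hcon.2 (congrArg Subtype.val h), fun h => hdiff (congrArg Subtype.val h), rfl⟩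
    haveI : Fintype T := Fintype.ofFinite T
    have h4 := Finset.card_le_univ ({a, b, c} : Finset T)
    rw [h3, ← Nat.card_eq_fintype_card, card_blocks_full p le_rfl hM, hgcd] at h4
    omega
  -- the three sets
  have e0 : {χ : IrrCharacter SL2 | (χ : SL2 → ℂ) 1 = (Fintype.card F : ℂ)} =
      blockOf M (st : SL2 → ℂ) := by
    rw [(hfull st hst1).1]
    exact Set.ext hS0
  have e1 : {χ : IrrCharacter SL2 | (χ : SL2 → ℂ) z = (χ : SL2 → ℂ) 1 ∧
      (χ : SL2 → ℂ) 1 ≠ (Fintype.card F : ℂ)} = blockOf M (one : SL2 → ℂ) := by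
    ext χ
    constructor
    · rintro ⟨h1, h2⟩
      rcases hcases _ (isPBlock_blockOf χ) with h | h | h
      · have h3 : χ ∈ blockOf M (st : SL2 → ℂ) := h ▸ self_mem_blockOf χ
        rw [(hfull st hst1).1, Set.mem_singleton_iff] at h3
        exact absurd ((hS0 χ).2 h3) h2
      · exact h ▸ self_mem_blockOf χ
      · exact absurd (hblock χ ne ((blockOf_eq_iff χ ne).1 h) h1) hne'
    · intro h
      refine ⟨hblock one χ h rfl, fun h2 => hone0 ?_⟩
      rw [(hS0 χ).1 h2] at h
      rw [(blockOf_eq_iff one st).2 h]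
      exact (hfull st hst1).2
  have e2 : {χ : IrrCharacter SL2 | (χ : SL2 → ℂ) z = -(χ : SL2 → ℂ) 1} =
      blockOf M (ne : SL2 → ℂ) := by
    ext χ
    constructor
    · intro h1
      have h1' : ¬ (χ : SL2 → ℂ) z = (χ : SL2 → ℂ) 1 := fun e => irr_one_ne_zero χ (by
        rw [Set.mem_setOf_eq] at h1
        linear_combination (1 / 2 : ℂ) * h1 - (1 / 2 : ℂ) * e)
      rcases hcases _ (isPBlock_blockOf χ) with h | h | h
      · exact absurd (hblock st χ (sameBlock_symm ((blockOf_eq_iff χ st).1 h)) hstz) h1'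
      · exact absurd (hblock one χ (sameBlock_symm ((blockOf_eq_iff χ one).1 h)) rfl) h1'
      · exact h ▸ self_mem_blockOf χ
    · intro h
      exact (hsign χ).resolve_left fun h1 => hne' (hblock χ ne (sameBlock_symm h) h1)
  rw [e0, e1, e2]
  refine ⟨fun B => ⟨hcases B, ?_⟩, ?_, fun P => ?_⟩
  · rintro (rfl | rfl | rfl) <;> exact isPBlock_blockOf _
  · rw [card_blocks p le_rfl hM, hgcd]
  · obtain ⟨g, hg⟩ := MulAction.exists_smul_eq SL2 (sylU 2 F p) P
    have hP : (P : Subgroup SL2) = (uniU 2 F).map (MulAut.conj g).toMonoidHom := by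
      rw [← hg]
      rfl
    rw [hP]
    exact ⟨IsDefectGroup.map_conj
        ((isDefectGroup_uniU_iff p le_rfl hM (isPBlock_blockOf one)).2 hone0) g,
      IsDefectGroup.map_conj
        ((isDefectGroup_uniU_iff p le_rfl hM (isPBlock_blockOf ne)).2 hne0) g⟩

end Cfsg.Agent.SLBlocks
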